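import Groth.Agent.SymProdLib.Local
import Groth.Agent.QuotScheme.BaseChange

/-!
# Products of symmetric powers; base change of quotients when the order of the group is invertible
-/

set_option autoImplicit false
set_option backward.isDefEq.respectTransparency false
set_option backward.isDefEq.respectTransparency.types false
set_option linter.style.haveILetI false
set_option linter.unusedSectionVars false

universe u

open CategoryTheory CategoryTheory.Limits AlgebraicGeometry TopologicalSpace SymProd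
open scoped TensorProduct

namespace Groth.Agent.SymProdLib

open Groth.Agent.QuotScheme (appLE_congr_hom)

/-- Symmetric powers of flat morphisms are flat. -/
theorem flat_of_isSymProd' {X S Y : Scheme.{u}} {f : X ⟶ S} {n : ℕ} [Flat f] {q : fibPow f n ⟶ Y} {g : Y ⟶ S}
    (hq : IsSymProd f n q g) : Flat g := by
  refine (HasRingHomProperty.iff_exists_appLE (P := @Flat)
    (RingHom.Flat.stableUnderComposition.stableUnderCompositionWithLocalizationAway
      RingHom.Flat.holdsForLocalizationAway).1).2 fun y => ?_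
  obtain ⟨V, hV, hyV, -⟩ := exists_isAffineOpen_mem_and_subset (X := S) (x := g y) (U := ⊤) trivial
  obtain ⟨W', hW', hyW, hWV'⟩ := exists_isAffineOpen_mem_and_subset (X := Y) (x := y) (U := g ⁻¹ᵁ V) hyV
  refine ⟨⟨V, hV⟩, ⟨W', hW'⟩, hyW, hWV', ?_⟩
  have hQ := hq.isQuot
  haveI := hQ.affine
  have hW : IsAffineOpen (q ⁻¹ᵁ W') := hW'.preimage q
  have hWV : q ⁻¹ᵁ W' ≤ (WidePullback.base (fun _ : Fin n => f)) ⁻¹ᵁ V := by
    rw [← hq.over, Scheme.Hom.comp_preimage]
    exact q.preimage_mono hWV'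
  have hst : ∀ σ : Equiv.Perm (Fin n), q ⁻¹ᵁ W' ≤ (permHom f n σ⁻¹) ⁻¹ᵁ (q ⁻¹ᵁ W') := fun σ =>
    SGA1.preimage_le_of_inv _ q hQ.inv ⟨σ⁻¹⟩ W'
  letI := bAlg hWV
  letI := (g.appLE V W' hWV').hom.toAlgebra
  haveI := flat_fixed_affine hV hW hWV hst
  let ι : Γ(Y, W') →ₐ[Γ(S, V)] Γ(fibPow f n, q ⁻¹ᵁ W') :=
    { (q.app W').hom with
      commutes' := fun r => by
        change (q.app W').hom ((g.appLE V W' hWV').hom r) = _
        rw [Scheme.Hom.app_eq_appLE, ← CommRingCat.comp_apply, Scheme.Hom.appLE_comp_appLE,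
          appLE_congr_hom hq.over V _ _ hWV]
        rfl }
  have hmem : ∀ x, x ∈ fixed (actHom hWV hst) (⊤ : Subgroup (Equiv.Perm (Fin n))) ↔ x ∈ Set.range ι := fun x => by
    refine ⟨fun h => (hQ.range_iff W' x).2 fun σ => ?_, fun h σ => (hQ.range_iff W' x).1 h ⟨σ.1⁻¹⟩⟩
    have := h ⟨σ.down⁻¹, trivial⟩
    change ((permHom f n σ.down⁻¹⁻¹).appLE _ _ _).hom x = x at this
    rw [appLE_congr_hom (show permHom f n σ.down⁻¹⁻¹ = permHom f n σ.down by rw [inv_inv]) _ _ _
      (SGA1.preimage_le_of_inv _ q hQ.inv σ W')] at this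
    exact this
  let d : Γ(Y, W') →ₐ[Γ(S, V)] fixed (actHom hWV hst) (⊤ : Subgroup (Equiv.Perm (Fin n))) :=
    ι.codRestrict _ fun x => (hmem _).2 ⟨x, rfl⟩
  have hd : Function.Bijective d := by
    refine ⟨fun a b h => hQ.injective W' (congrArg Subtype.val h), fun x => ?_⟩
    obtain ⟨a, ha⟩ := (hmem x.1).1 x.2
    exact ⟨a, Subtype.ext ha⟩
  exact RingHom.flat_algebraMap_iff.2 (Module.Flat.of_linearEquiv (AlgEquiv.ofBijective d hd).toLinearEquiv)

/-- Invariants of a finite family whose sums over orbits are invariant, after a base change in which the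
size of the family is invertible. -/
theorem invariants_baseChange_unit {G : Type*} [Fintype G] {B A B' A' : CommRingCat.{u}} {ι : B ⟶ A}
    {f : B ⟶ B'} {a : A ⟶ A'} {ι' : B' ⟶ A'} (h : IsPushout ι f a ι') (hn : IsUnit ((Fintype.card G : ℕ) : B'))
    (σ : G → (A ⟶ A)) (σ' : G → (A' ⟶ A')) (hι : Function.Injective ι.hom)
    (hσι : ∀ g, ι ≫ σ g = ι) (htr : ∀ x, (∑ g, (σ g).hom x) ∈ Set.range ι.hom)
    (h1 : ∀ g, a ≫ σ' g = σ g ≫ a) (h2 : ∀ g, ι' ≫ σ' g = ι') :
    Function.Injective ι'.hom ∧ ∀ s, (∀ g, (σ' g).hom s = s) → s ∈ Set.range ι'.hom := by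
  classical
  algebraize [f.hom, ι.hom]
  have h0 := CommRingCat.isPushout_tensorProduct B B' A
  let e := (h0.isoIsPushout _ _ h.flip).commRingCatIsoToRingEquiv
  have el : ∀ b' : B', e (b' ⊗ₜ 1) = ι'.hom b' := fun b' ↦
    congr($(h0.inl_isoIsPushout_hom _ _ h.flip) b')
  have er : ∀ x : A, e (1 ⊗ₜ x) = a.hom x := fun x ↦
    congr($(h0.inr_isoIsPushout_hom _ _ h.flip) x)
  have et : ∀ b' x, e (b' ⊗ₜ x) = ι'.hom b' * a.hom x := fun b' x ↦ by
    rw [← el, ← er, ← map_mul, Algebra.TensorProduct.tmul_mul_tmul, mul_one, one_mul]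
  let r : A →ₗ[B] B :=
    { toFun := fun x => (htr x).choose
      map_add' := fun x y => hι (by
        rw [map_add, (htr (x + y)).choose_spec, (htr x).choose_spec, (htr y).choose_spec, ← Finset.sum_add_distrib]
        exact Finset.sum_congr rfl fun g _ => map_add _ _ _)
      map_smul' := fun c x => hι (by
        rw [RingHom.id_apply, smul_eq_mul, map_mul, (htr (c • x)).choose_spec, (htr x).choose_spec, Finset.mul_sum]
        refine Finset.sum_congr rfl fun g _ => ?_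
        rw [Algebra.smul_def, map_mul]
        exact congr_arg (· * _) congr($(hσι g) c)) }
  have hr : ∀ x, ι.hom (r x) = ∑ g, (σ g).hom x := fun x => (htr x).choose_spec
  have hrι : ∀ b : B, r (ι.hom b) = (Fintype.card G : B) * b := fun b => hι (by
    rw [hr, map_mul, map_natCast]
    refine (Finset.sum_congr rfl fun g _ => congr($(hσι g) b)).trans ?_
    exact (Finset.sum_const (s := (Finset.univ : Finset G)) (ι.hom b)).trans (by rw [Finset.card_univ, nsmul_eq_mul]))
  let R' : A' → B' := fun x => TensorProduct.rid B B' (r.lTensor B' (e.symm x))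
  have hR : ∀ z, ι'.hom (R' z) = ∑ g, (σ' g).hom z := fun z => by
    obtain ⟨w, rfl⟩ := e.surjective z
    simp only [R', RingEquiv.symm_apply_apply]
    change (B' ⊗[B] A) at w
    induction w using TensorProduct.induction_on with
    | zero => simp
    | tmul b' x =>
      rw [LinearMap.lTensor_tmul, TensorProduct.rid_tmul, Algebra.smul_def, map_mul, et, mul_comm (ι'.hom (algebraMap B B' (r x)))]
      have hw : ι'.hom (algebraMap B B' (r x)) = a.hom (ι.hom (r x)) := congr($(h.w.symm) (r x))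
      rw [hw, hr, map_sum, Finset.mul_sum]
      refine Finset.sum_congr rfl fun g _ => ?_
      rw [map_mul]
      exact congr_arg₂ (· * ·) congr($(h2 g) b').symm congr($(h1 g) x).symm
    | add u v hu hv => simp only [map_add, hu, hv, Finset.sum_add_distrib]
  have hRι : ∀ b', R' (ι'.hom b') = (Fintype.card G : B') * b' := fun b' => by
    simp only [R']
    rw [← el, RingEquiv.symm_apply_apply, LinearMap.lTensor_tmul, TensorProduct.rid_tmul, ← map_one ι.hom, hrι,
      mul_one, Algebra.smul_def, map_natCast]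
  refine ⟨fun b₁ b₂ hb => hn.mul_left_cancel (by rw [← hRι, ← hRι, hb]), fun s hs => ?_⟩
  obtain ⟨w, hw⟩ := hn
  refine ⟨((w⁻¹ : B'ˣ) : B') * R' s, ?_⟩
  rw [map_mul, hR, Finset.sum_congr rfl fun g _ => hs g, Finset.sum_const, Finset.card_univ, nsmul_eq_mul,
    ← map_natCast ι'.hom, ← mul_assoc, ← map_mul, ← hw, Units.inv_mul, map_one, one_mul]

variable {X Y X' Y' : Scheme.{u}} {G : Type u} [Group G] {ρ : G →* Aut X} {p : X ⟶ Y}

/-- Quotients commute with base change to schemes on which the order of the group is invertible. -/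
theorem unit_baseChange [Fintype G] (hp : SGA1.IsQuot ρ p) (qY : Y' ⟶ Y)
    (hn : IsUnit ((Fintype.card G : ℕ) : Γ(Y', ⊤))) (pX : X' ⟶ X)
    (p' : X' ⟶ Y') (hX : IsPullback pX p' p qY) (ρ' : G →* Aut X')
    (hρ₁ : ∀ g : G, (ρ' g).hom ≫ pX = pX ≫ (ρ g).hom) (hρ₂ : ∀ g : G, (ρ' g).hom ≫ p' = p') :
    SGA1.IsQuot ρ' p' := by
  classical
  have hp' : IsAffineHom p' := MorphismProperty.of_isPullback hX hp.affine
  refine Groth.Agent.QuotScheme.of_affine_cover hp' hρ₂ fun y ↦ ?_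
  obtain ⟨U, hU, hyU, -⟩ := Groth.Agent.QuotScheme.exists_affine_nbhd (Y := Y) (O := ⊤) (y := qY y) trivial
  obtain ⟨U', hU', hyU', hle⟩ := Groth.Agent.QuotScheme.exists_affine_nbhd (Y := Y') (O := qY ⁻¹ᵁ U) (y := y) hyU
  have := hp.affine
  have hO : p' ⁻¹ᵁ U' = pX ⁻¹ᵁ (p ⁻¹ᵁ U) ⊓ p' ⁻¹ᵁ U' := by
    refine (inf_eq_right.mpr fun x hx ↦ ?_).symm
    change p (pX x) ∈ U
    rw [← Scheme.Hom.comp_apply, hX.w]
    exact hle hx
  have hpo := (isIso_pushoutSection_iff hX hle le_rfl hO).mp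
    (isIso_pushoutSection_of_isAffineOpen hX hle le_rfl hO hU hU' (hU.preimage p))
  have e₀ := fun g ↦ SGA1.preimage_le_of_inv ρ p hp.inv g U
  have e₀' := fun g ↦ SGA1.preimage_le_of_inv ρ' p' hρ₂ g U'
  have h1 := fun g ↦ show pX.appLE (p ⁻¹ᵁ U) (p' ⁻¹ᵁ U') (hO.le.trans inf_le_left) ≫
      (ρ' g).hom.appLE (p' ⁻¹ᵁ U') (p' ⁻¹ᵁ U') (e₀' g) =
      (ρ g).hom.appLE (p ⁻¹ᵁ U) (p ⁻¹ᵁ U) (e₀ g) ≫
        pX.appLE (p ⁻¹ᵁ U) (p' ⁻¹ᵁ U') (hO.le.trans inf_le_left) by
    rw [Scheme.Hom.appLE_comp_appLE, Scheme.Hom.appLE_comp_appLE]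
    exact appLE_congr_hom (hρ₁ g) _ _ _ _
  have hσ := fun g ↦ show p.appLE U (p ⁻¹ᵁ U) le_rfl ≫ (ρ g).hom.appLE _ _ (e₀ g) =
      p.appLE U (p ⁻¹ᵁ U) le_rfl by
    rw [Scheme.Hom.appLE_comp_appLE]; exact appLE_congr_hom (hp.inv g) _ _ _ _
  have h2 := fun g ↦ show p'.appLE U' (p' ⁻¹ᵁ U') le_rfl ≫ (ρ' g).hom.appLE _ _ (e₀' g) =
      p'.appLE U' (p' ⁻¹ᵁ U') le_rfl by
    rw [Scheme.Hom.appLE_comp_appLE]; exact appLE_congr_hom (hρ₂ g) _ _ _ _
  have htr : ∀ x, (∑ g, ((ρ g).hom.appLE (p ⁻¹ᵁ U) (p ⁻¹ᵁ U) (e₀ g)).hom x) ∈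
      Set.range (p.appLE U (p ⁻¹ᵁ U) le_rfl).hom := fun x => by
    rw [← Scheme.Hom.app_eq_appLE]
    refine (hp.range_iff U _).2 fun g => ?_
    rw [map_sum]
    refine Fintype.sum_equiv (Equiv.mulRight g) _ _ fun k => ?_
    rw [Equiv.coe_mulRight, ← CommRingCat.comp_apply, Scheme.Hom.appLE_comp_appLE,
      appLE_congr_hom (show (ρ g).hom ≫ (ρ k).hom = (ρ (k * g)).hom by rw [map_mul]; rfl) _ _ _ (e₀ (k * g))]
  have hn' : IsUnit ((Fintype.card G : ℕ) : Γ(Y', U')) := by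
    have := hn.map (Y'.presheaf.map (homOfLE (le_top (a := U'))).op).hom
    rwa [map_natCast] at this
  obtain ⟨hi, hr⟩ := invariants_baseChange_unit hpo hn' _ _ (Scheme.Hom.app_eq_appLE p ▸ hp.injective U) hσ htr h1 h2
  refine ⟨U', hU', hyU', by rw [Scheme.Hom.app_eq_appLE]; exact hi, fun s hs ↦ ?_⟩
  rw [Scheme.Hom.app_eq_appLE]
  exact hr s fun g ↦ hs g _

/-- Fibre powers of flat morphisms are flat. -/
theorem flat_fibPow_base {Z S : Scheme.{u}} (g : Z ⟶ S) [Flat g] :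
    ∀ m : ℕ, Flat (WidePullback.base fun _ : Fin m => g) := by
  intro m
  induction m with
  | zero =>
    have : IsIso (WidePullback.base fun _ : Fin 0 => g) := by
      refine ⟨WidePullback.lift (𝟙 S) (fun i => Fin.elim0 i) (fun i => Fin.elim0 i), ?_, WidePullback.lift_base _ _ _ _⟩
      apply WidePullback.hom_ext
      · exact fun i => Fin.elim0 i
      · rw [Category.assoc, WidePullback.lift_base, Category.comp_id, Category.id_comp]
    infer_instance
  | succ m ih =>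
    let t : fibPow g (m + 1) ⟶ fibPow g m := WidePullback.lift (WidePullback.base _)
      (fun i => WidePullback.π _ i.succ) (fun i => WidePullback.π_arrow _ _)
    have ht : ∀ i, t ≫ WidePullback.π _ i = WidePullback.π (fun _ : Fin (m + 1) => g) i.succ := fun i =>
      WidePullback.lift_π _ _ _ _ i
    have htb : t ≫ WidePullback.base _ = WidePullback.base fun _ : Fin (m + 1) => g :=
      WidePullback.lift_base _ _ _ _
    have hw : WidePullback.π (fun _ : Fin (m + 1) => g) 0 ≫ g = t ≫ WidePullback.base _ := by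
      rw [htb, WidePullback.π_arrow]
    have hP : IsPullback (WidePullback.π (fun _ : Fin (m + 1) => g) 0) t g (WidePullback.base _) := by
      refine ⟨⟨hw⟩, ⟨PullbackCone.IsLimit.mk hw
        (fun c => WidePullback.lift (c.fst ≫ g) (Fin.cases c.fst fun i => c.snd ≫ WidePullback.π _ i) (fun i => by
          induction i using Fin.cases with
          | zero => rfl
          | succ i => simp only [Fin.cases_succ]; rw [Category.assoc, WidePullback.π_arrow, c.condition]))
        (fun c => WidePullback.lift_π _ _ _ _ 0) (fun c => ?_) (fun c l h₁ h₂ => ?_)⟩⟩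
      · apply WidePullback.hom_ext
        · intro i
          rw [Category.assoc, ht, WidePullback.lift_π, Fin.cases_succ]
        · rw [Category.assoc, htb, WidePullback.lift_base, c.condition]
      · apply WidePullback.hom_ext
        · intro i
          induction i using Fin.cases with
          | zero => rw [h₁, WidePullback.lift_π, Fin.cases_zero]
          | succ i => rw [WidePullback.lift_π, Fin.cases_succ, ← h₂, Category.assoc, ht]
        · rw [WidePullback.lift_base, ← htb, reassoc_of% h₂, c.condition]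
    haveI : Flat t := MorphismProperty.of_isPullback hP inferInstance
    rw [← htb]
    infer_instance

/-- A quotient followed by a quotient is a quotient. -/
theorem isQuot_comp {X X₁ Y : Scheme.{u}} {A B G : Type u} [Group A] [Group B] [Group G]
    (ρ : G →* Aut X) (iA : A →* G) (iB : B →* G) (hgen : ∀ g, ∃ a b, iA a * iB b = g)
    {p : X ⟶ X₁} {p₂ : X₁ ⟶ Y} {ρ₁ : B →* Aut X₁} (hp : SGA1.IsQuot (ρ.comp iA) p) (hp₂ : SGA1.IsQuot ρ₁ p₂)
    (heq : ∀ b, (ρ (iB b)).hom ≫ p = p ≫ (ρ₁ b).hom) : SGA1.IsQuot ρ (p ≫ p₂) := by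
  haveI := hp.affine
  haveI := hp₂.affine
  have hinvA : ∀ a, (ρ (iA a)).hom ≫ p = p := hp.inv
  have hinv : ∀ g, (ρ g).hom ≫ p ≫ p₂ = p ≫ p₂ := fun g => by
    obtain ⟨a, b, rfl⟩ := hgen g
    rw [map_mul, show (ρ (iA a) * ρ (iB b)).hom = (ρ (iB b)).hom ≫ (ρ (iA a)).hom from rfl, Category.assoc,
      reassoc_of% (hinvA a), reassoc_of% (heq b), hp₂.inv b]
  have hcomm : ∀ (b : B) (U : Y.Opens) (t : Γ(X₁, p₂ ⁻¹ᵁ U)),
      (p.app (p₂ ⁻¹ᵁ U)).hom (((ρ₁ b).hom.appLE (p₂ ⁻¹ᵁ U) (p₂ ⁻¹ᵁ U) (SGA1.preimage_le_of_inv ρ₁ p₂ hp₂.inv b U)).hom t) =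
        ((ρ (iB b)).hom.appLE ((p ≫ p₂) ⁻¹ᵁ U) ((p ≫ p₂) ⁻¹ᵁ U)
          (SGA1.preimage_le_of_inv ρ (p ≫ p₂) hinv (iB b) U)).hom ((p.app (p₂ ⁻¹ᵁ U)).hom t) := fun b U t => by
    have key : (ρ₁ b).hom.appLE (p₂ ⁻¹ᵁ U) (p₂ ⁻¹ᵁ U) (SGA1.preimage_le_of_inv ρ₁ p₂ hp₂.inv b U) ≫
        p.appLE (p₂ ⁻¹ᵁ U) (p ⁻¹ᵁ (p₂ ⁻¹ᵁ U)) le_rfl =
          p.appLE (p₂ ⁻¹ᵁ U) (p ⁻¹ᵁ (p₂ ⁻¹ᵁ U)) le_rfl ≫
            (ρ (iB b)).hom.appLE (p ⁻¹ᵁ (p₂ ⁻¹ᵁ U)) (p ⁻¹ᵁ (p₂ ⁻¹ᵁ U))
              (SGA1.preimage_le_of_inv ρ (p ≫ p₂) hinv (iB b) U) := by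
      rw [Scheme.Hom.appLE_comp_appLE, Scheme.Hom.appLE_comp_appLE]
      exact appLE_congr_hom (heq b).symm _ _ _ _
    rw [Scheme.Hom.app_eq_appLE]
    exact congr($key t)
  refine ⟨inferInstance, hinv, fun U => ?_, fun U s => ⟨?_, fun h => ?_⟩⟩
  · rw [Scheme.Hom.comp_app]
    exact (hp.injective _).comp (hp₂.injective U)
  · rintro ⟨t, rfl⟩ g
    rw [Scheme.Hom.app_eq_appLE, ← CommRingCat.comp_apply, Scheme.Hom.appLE_comp_appLE,
      appLE_congr_hom (hinv g) U _ _ (le_refl _)]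
  · obtain ⟨t, ht⟩ := (hp.range_iff (p₂ ⁻¹ᵁ U) s).2 fun a => h (iA a)
    obtain ⟨r, hr⟩ := (hp₂.range_iff U t).2 fun b => hp.injective (p₂ ⁻¹ᵁ U) (by
      rw [hcomm, ht]; exact h (iB b))
    exact ⟨r, by rw [Scheme.Hom.comp_app]; exact (congrArg (p.app (p₂ ⁻¹ᵁ U)).hom hr).trans ht⟩

/-- The product of two symmetric powers is the quotient of the product of the fibre powers. -/
theorem isQuot_prod_symProd {X Z S P Q : Scheme.{u}} (f : X ⟶ S) (g : Z ⟶ S) (d e : ℕ)
    (h : (Flat f ∧ Flat g) ∨ ∀ n : ℕ, 0 < n → IsUnit ((n : ℕ) : Γ(S, ⊤)))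
    (qX : fibPow f d ⟶ P) (pP : P ⟶ S) (hqX : IsSymProd f d qX pP)
    (qZ : fibPow g e ⟶ Q) (pQ : Q ⟶ S) (hqZ : IsSymProd g e qZ pQ)
    (ρ : ULift.{u} (Equiv.Perm (Fin d) × Equiv.Perm (Fin e)) →*
      Aut (pullback (WidePullback.base fun _ : Fin d => f) (WidePullback.base fun _ : Fin e => g)))
    (hρ : ∀ σ, (ρ σ).hom ≫ pullback.fst (WidePullback.base fun _ : Fin d => f) (WidePullback.base fun _ : Fin e => g) =
        pullback.fst (WidePullback.base fun _ : Fin d => f) (WidePullback.base fun _ : Fin e => g) ≫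
          permHom f d σ.down.1 ∧
      (ρ σ).hom ≫ pullback.snd (WidePullback.base fun _ : Fin d => f) (WidePullback.base fun _ : Fin e => g) =
        pullback.snd (WidePullback.base fun _ : Fin d => f) (WidePullback.base fun _ : Fin e => g) ≫
          permHom g e σ.down.2) :
    SGA1.IsQuot ρ (pullback.map (WidePullback.base fun _ : Fin d => f) (WidePullback.base fun _ : Fin e => g) pP pQ
      qX qZ (𝟙 S) ((Category.comp_id _).trans hqX.over.symm) ((Category.comp_id _).trans hqZ.over.symm)) := by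
  classical
  let bX := WidePullback.base fun _ : Fin d => f
  let bZ := WidePullback.base fun _ : Fin e => g
  let T₁ := pullback pP bZ
  let p₁ : pullback bX bZ ⟶ T₁ := pullback.lift (pullback.fst bX bZ ≫ qX) (pullback.snd bX bZ)
    (by rw [Category.assoc, hqX.over]; exact pullback.condition)
  let p₂ : T₁ ⟶ pullback pP pQ := pullback.lift (pullback.fst pP bZ) (pullback.snd pP bZ ≫ qZ)
    (by rw [Category.assoc, hqZ.over]; exact pullback.condition)
  have sq₁ : IsPullback (pullback.fst bX bZ) p₁ qX (pullback.fst pP bZ) := by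
    refine IsPullback.of_bot ?_ (pullback.lift_fst _ _ _).symm (IsPullback.of_hasPullback pP bZ)
    rw [pullback.lift_snd, hqX.over]
    exact IsPullback.of_hasPullback bX bZ
  have sq₂ : IsPullback (pullback.snd pP bZ) p₂ qZ (pullback.snd pP pQ) := by
    refine IsPullback.of_bot ?_ (pullback.lift_snd _ _ _).symm (IsPullback.of_hasPullback pP pQ).flip
    rw [pullback.lift_fst, hqZ.over]
    exact (IsPullback.of_hasPullback pP bZ).flip
  let iA : ULift.{u} (Equiv.Perm (Fin d)) →* ULift.{u} (Equiv.Perm (Fin d) × Equiv.Perm (Fin e)) :=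
    { toFun := fun σ => ⟨(σ.down, 1)⟩
      map_one' := rfl
      map_mul' := fun σ τ => ULift.ext _ _ (Prod.ext rfl (one_mul 1).symm) }
  let iB : ULift.{u} (Equiv.Perm (Fin e)) →* ULift.{u} (Equiv.Perm (Fin d) × Equiv.Perm (Fin e)) :=
    { toFun := fun σ => ⟨(1, σ.down)⟩
      map_one' := rfl
      map_mul' := fun σ τ => ULift.ext _ _ (Prod.ext (one_mul 1).symm rfl) }
  have hA₁ : ∀ a, ((ρ.comp iA) a).hom ≫ pullback.fst bX bZ = pullback.fst bX bZ ≫ (permActU f d a).hom := fun a =>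
    (hρ (iA a)).1
  have hA₂ : ∀ a, ((ρ.comp iA) a).hom ≫ p₁ = p₁ := fun a => by
    apply pullback.hom_ext
    · rw [Category.assoc, pullback.lift_fst, reassoc_of% (hA₁ a), hqX.isQuot.inv a]
    · rw [Category.assoc, pullback.lift_snd]
      refine ((hρ (iA a)).2).trans ?_
      change _ ≫ permHom g e 1 = _
      rw [permHom_one, Category.comp_id]
  -- the action of the second factor on the intermediate product
  let aut₁ : ULift.{u} (Equiv.Perm (Fin e)) → (T₁ ⟶ T₁) := fun b =>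
    pullback.lift (pullback.fst pP bZ) (pullback.snd pP bZ ≫ permHom g e b.down)
      (by rw [Category.assoc, permHom_base]; exact pullback.condition)
  have haut_mul : ∀ a b, aut₁ (a * b) = aut₁ b ≫ aut₁ a := fun a b => by
    apply pullback.hom_ext
    · simp only [aut₁, Category.assoc, pullback.lift_fst]
    · simp only [aut₁, Category.assoc, pullback.lift_snd, pullback.lift_snd_assoc]
      rw [show (a * b).down = a.down * b.down from rfl, permHom_mul]
  have haut_one : aut₁ 1 = 𝟙 _ := by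
    apply pullback.hom_ext
    · simp [aut₁]
    · simp only [aut₁, pullback.lift_snd, Category.id_comp]
      rw [show (1 : ULift.{u} (Equiv.Perm (Fin e))).down = 1 from rfl, permHom_one, Category.comp_id]
  let ρ₁ : ULift.{u} (Equiv.Perm (Fin e)) →* Aut T₁ :=
    { toFun := fun b => ⟨aut₁ b, aut₁ b⁻¹, by rw [← haut_mul, inv_mul_cancel, haut_one],
        by rw [← haut_mul, mul_inv_cancel, haut_one]⟩
      map_one' := Iso.ext haut_one
      map_mul' := fun a b => Iso.ext (haut_mul a b) }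
  have hB₁ : ∀ b, (ρ₁ b).hom ≫ pullback.snd pP bZ = pullback.snd pP bZ ≫ (permActU g e b).hom := fun b =>
    pullback.lift_snd _ _ _
  have hB₂ : ∀ b, (ρ₁ b).hom ≫ p₂ = p₂ := fun b => by
    apply pullback.hom_ext
    · rw [Category.assoc, pullback.lift_fst]
      exact pullback.lift_fst _ _ _
    · rw [Category.assoc, pullback.lift_snd, reassoc_of% (hB₁ b), hqZ.isQuot.inv b]
  have hquot₁ : SGA1.IsQuot (ρ.comp iA) p₁ := by
    rcases h with ⟨_, hg⟩ | hu
    · haveI := hg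
      haveI : Flat bZ := flat_fibPow_base g e
      exact Groth.Agent.QuotScheme.flat_baseChange hqX.isQuot (pullback.fst pP bZ) _ _ sq₁ _ hA₁ hA₂
    · refine unit_baseChange hqX.isQuot (pullback.fst pP bZ) ?_ _ _ sq₁ _ hA₁ hA₂
      have := (hu (Fintype.card (ULift.{u} (Equiv.Perm (Fin d)))) Fintype.card_pos).map
        ((pullback.fst pP bZ ≫ pP).appTop).hom
      rwa [map_natCast] at this
  have hquot₂ : SGA1.IsQuot ρ₁ p₂ := by
    rcases h with ⟨hf, _⟩ | hu
    · haveI := hf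
      haveI := flat_of_isSymProd' hqX
      exact Groth.Agent.QuotScheme.flat_baseChange hqZ.isQuot (pullback.snd pP pQ) _ _ sq₂ _ hB₁ hB₂
    · refine unit_baseChange hqZ.isQuot (pullback.snd pP pQ) ?_ _ _ sq₂ _ hB₁ hB₂
      have := (hu (Fintype.card (ULift.{u} (Equiv.Perm (Fin e)))) Fintype.card_pos).map
        ((pullback.fst pP pQ ≫ pP).appTop).hom
      rwa [map_natCast] at this
  have heq : ∀ b, (ρ (iB b)).hom ≫ p₁ = p₁ ≫ (ρ₁ b).hom := fun b => by
    apply pullback.hom_ext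
    · rw [Category.assoc, Category.assoc, pullback.lift_fst, reassoc_of% ((hρ (iB b)).1)]
      change _ ≫ permHom f d 1 ≫ qX = _ ≫ aut₁ b ≫ _
      rw [permHom_one, Category.id_comp, pullback.lift_fst, pullback.lift_fst]
    · rw [Category.assoc, Category.assoc, pullback.lift_snd]
      change _ = _ ≫ aut₁ b ≫ _
      rw [pullback.lift_snd, pullback.lift_snd_assoc]
      exact (hρ (iB b)).2
  have := isQuot_comp ρ iA iB (fun σ => ⟨⟨σ.down.1⟩, ⟨σ.down.2⟩, ULift.ext _ _ (Prod.ext (mul_one _) (one_mul _))⟩)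
    hquot₁ hquot₂ heq
  convert this using 1
  apply pullback.hom_ext
  · rw [pullback.lift_fst, Category.assoc, pullback.lift_fst, pullback.lift_fst]
  · rw [pullback.lift_snd, Category.assoc, pullback.lift_snd, pullback.lift_snd_assoc]

end Groth.Agent.SymProdLib
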