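import Groth.Agent.SymProdLib.Gen
import Groth.Agent.SymProdLib.Prod
import Groth.Agent.QuotScheme.Props
import Groth.Agent.QuotScheme.Residue
import Mathlib.AlgebraicGeometry.Morphisms.ClosedImmersion
import Mathlib.AlgebraicGeometry.Morphisms.Preimmersion
import Mathlib.AlgebraicGeometry.PullbackCarrier

/-!
# Comparison of symmetric products after a base change or a closed immersion

Let `j : X'' → X ×_S S''` be a closed immersion. The symmetric product of `X''` over `S''` maps to the base change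
of that of `X`; this map has trivial residue field extensions, and it is a closed immersion if `X'' → S''` is flat
or the positive integers are invertible on `S''`.
-/

set_option autoImplicit false
set_option backward.isDefEq.respectTransparency false
set_option backward.isDefEq.respectTransparency.types false
set_option linter.style.haveILetI false
set_option linter.unusedSectionVars false

universe u

open CategoryTheory CategoryTheory.Limits AlgebraicGeometry TopologicalSpace SymProd
open scoped TensorProduct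

namespace Groth.Agent.SymProdLib

open Groth.Agent.QuotScheme (appLE_congr_hom)

theorem surjective_comp_isIso {A B C : CommRingCat.{u}} (a : A ⟶ B) (b : B ⟶ C) [IsIso b]
    (ha : Function.Surjective a.hom) : Function.Surjective (a ≫ b).hom := by
  rw [CommRingCat.hom_comp, RingHom.coe_comp]
  exact (ConcreteCategory.bijective_of_isIso b).2.comp ha

section FibPow

variable {X Z S S' : Scheme.{u}}

/-- A fibre power is the product of the first factor with the previous one. -/
theorem exists_isPullback_succ (g : Z ⟶ S) (m : ℕ) :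
    ∃ t : fibPow g (m + 1) ⟶ fibPow g m,
      (∀ k, t ≫ WidePullback.π _ k = WidePullback.π (fun _ : Fin (m + 1) => g) k.succ) ∧
      t ≫ WidePullback.base _ = WidePullback.base (fun _ : Fin (m + 1) => g) ∧
      IsPullback (WidePullback.π (fun _ : Fin (m + 1) => g) 0) t g (WidePullback.base _) := by
  let t : fibPow g (m + 1) ⟶ fibPow g m := WidePullback.lift (WidePullback.base _)
    (fun i => WidePullback.π _ i.succ) (fun i => WidePullback.π_arrow _ _)
  have ht : ∀ i, t ≫ WidePullback.π _ i = WidePullback.π (fun _ : Fin (m + 1) => g) i.succ := fun i =>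
    WidePullback.lift_π _ _ _ _ i
  have htb : t ≫ WidePullback.base _ = WidePullback.base fun _ : Fin (m + 1) => g :=
    WidePullback.lift_base _ _ _ _
  have hw : WidePullback.π (fun _ : Fin (m + 1) => g) 0 ≫ g = t ≫ WidePullback.base _ := by
    rw [htb, WidePullback.π_arrow]
  refine ⟨t, ht, htb, ⟨hw⟩, ⟨PullbackCone.IsLimit.mk hw
    (fun c => WidePullback.lift (c.fst ≫ g) (Fin.cases c.fst fun i => c.snd ≫ WidePullback.π _ i) (fun i => by
      induction i using Fin.cases with
      | zero => rfl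
      | succ i => simp only [Fin.cases_succ]; rw [Category.assoc, WidePullback.π_arrow, c.condition]))
    (fun c => WidePullback.lift_π _ _ _ _ 0) (fun c => ?_) (fun c l h₁ h₂ => ?_)⟩⟩
  · apply WidePullback.hom_ext
    · intro i
      rw [Category.assoc, ht, WidePullback.lift_π, Fin.cases_succ]
    · rw [Category.assoc, htb, WidePullback.lift_base, c.condition]
  · apply WidePullback.hom_ext
    · intro i
      induction i using Fin.cases with
      | zero => rw [h₁, WidePullback.lift_π, Fin.cases_zero]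
      | succ i => rw [WidePullback.lift_π, Fin.cases_succ, ← h₂, Category.assoc, ht]
    · rw [WidePullback.lift_base, ← htb, reassoc_of% h₂, c.condition]

theorem isIso_base_zero (g : Z ⟶ S) : IsIso (WidePullback.base fun _ : Fin 0 => g) := by
  refine ⟨WidePullback.lift (𝟙 S) (fun i => Fin.elim0 i) (fun i => Fin.elim0 i), ?_, WidePullback.lift_base _ _ _ _⟩
  apply WidePullback.hom_ext
  · exact fun i => Fin.elim0 i
  · rw [Category.assoc, WidePullback.lift_base, Category.comp_id, Category.id_comp]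

/-- Fibre powers of closed immersions are closed immersions. -/
theorem isClosedImmersion_fibPowMap (f : X ⟶ S) (f' : Z ⟶ S) (i : Z ⟶ X) [IsClosedImmersion i] (w : i ≫ f = f') :
    ∀ m : ℕ, IsClosedImmersion (fibPowMap f' m f i w) := by
  intro m
  induction m with
  | zero =>
    haveI := isIso_base_zero f
    haveI := isIso_base_zero f'
    have : fibPowMap f' 0 f i w =
        WidePullback.base (fun _ : Fin 0 => f') ≫ inv (WidePullback.base fun _ : Fin 0 => f) := by
      rw [IsIso.eq_comp_inv, fibPowMap_base]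
    rw [this]
    infer_instance
  | succ m ih =>
    obtain ⟨t', ht', htb', hP'⟩ := exists_isPullback_succ f' m
    obtain ⟨t, ht, htb, hP⟩ := exists_isPullback_succ f m
    have hm : IsClosedImmersion (pullback.map f' (WidePullback.base fun _ : Fin m => f') f
        (WidePullback.base fun _ : Fin m => f) i (fibPowMap f' m f i w) (𝟙 S)
        ((Category.comp_id _).trans w.symm) ((Category.comp_id _).trans (fibPowMap_base f' m f i w).symm)) :=
      MorphismProperty.pullbackMap (P := @IsClosedImmersion) inferInstance ih w.symm (fibPowMap_base f' m f i w).symm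
    have : fibPowMap f' (m + 1) f i w = hP'.isoPullback.hom ≫ pullback.map f' _ f _ i (fibPowMap f' m f i w) (𝟙 S)
        ((Category.comp_id _).trans w.symm) ((Category.comp_id _).trans (fibPowMap_base f' m f i w).symm) ≫
          hP.isoPullback.inv := by
      rw [← Category.assoc, Iso.eq_comp_inv]
      apply pullback.hom_ext
      · rw [Category.assoc, IsPullback.isoPullback_hom_fst, fibPowMap_π, Category.assoc, pullback.lift_fst,
          IsPullback.isoPullback_hom_fst_assoc]
      · rw [Category.assoc, IsPullback.isoPullback_hom_snd, Category.assoc, pullback.lift_snd,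
          IsPullback.isoPullback_hom_snd_assoc]
        apply WidePullback.hom_ext
        · intro k
          rw [Category.assoc, ht, fibPowMap_π, Category.assoc, fibPowMap_π, reassoc_of% (ht' k)]
        · rw [Category.assoc, htb, fibPowMap_base, Category.assoc, fibPowMap_base, htb']
    rw [this]
    infer_instance

/-- The fibre power of a base change is the base change of the fibre power. -/
theorem isPullback_fibPow (f : X ⟶ S) (b : S' ⟶ S) {n : ℕ}
    (c : fibPow (pullback.snd f b) n ⟶ fibPow f n)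
    (hcπ : ∀ i : Fin n, c ≫ WidePullback.π (fun _ => f) i =
      WidePullback.π (fun _ => pullback.snd f b) i ≫ pullback.fst f b)
    (hcb : c ≫ WidePullback.base (fun _ => f) = WidePullback.base (fun _ => pullback.snd f b) ≫ b) :
    IsPullback c (WidePullback.base (fun _ => pullback.snd f b)) (WidePullback.base (fun _ => f)) b := by
  refine ⟨⟨hcb⟩, ⟨PullbackCone.IsLimit.mk hcb
    (fun s => WidePullback.lift s.snd
      (fun i => pullback.lift (s.fst ≫ WidePullback.π (fun _ => f) i) s.snd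
        (by rw [Category.assoc, WidePullback.π_arrow, s.condition])) fun i => by rw [pullback.lift_snd])
    (fun s => ?_) (fun s => WidePullback.lift_base _ _ _ _) (fun s m hm₁ hm₂ => ?_)⟩⟩
  · apply WidePullback.hom_ext
    · intro i
      rw [Category.assoc, hcπ, WidePullback.lift_π_assoc, pullback.lift_fst]
    · rw [Category.assoc, hcb, WidePullback.lift_base_assoc, s.condition]
  · apply WidePullback.hom_ext
    · intro i
      rw [WidePullback.lift_π]
      apply pullback.hom_ext
      · rw [pullback.lift_fst, Category.assoc, ← hcπ, reassoc_of% hm₁]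
      · rw [pullback.lift_snd, Category.assoc, WidePullback.π_arrow, hm₂]
    · rw [WidePullback.lift_base, hm₂]

end FibPow

variable {X S X'' S'' : Scheme.{u}} {f : X ⟶ S} {f'' : X'' ⟶ S''} {i : X'' ⟶ X} {gs : S'' ⟶ S} {d : ℕ}
  {c : fibPow f'' d ⟶ fibPow f d}

theorem isClosedImmersion_lift_fibPow (w : i ≫ f = f'' ≫ gs) [IsClosedImmersion (pullback.lift i f'' w)]
    (hcπ : ∀ k, c ≫ WidePullback.π (fun _ => f) k = WidePullback.π (fun _ => f'') k ≫ i)
    (hcb : c ≫ WidePullback.base (fun _ => f) = WidePullback.base (fun _ => f'') ≫ gs) :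
    IsClosedImmersion (pullback.lift c (WidePullback.base fun _ : Fin d => f'') hcb) := by
  let c' : fibPow (pullback.snd f gs) d ⟶ fibPow f d :=
    WidePullback.lift (WidePullback.base _ ≫ gs) (fun k => WidePullback.π _ k ≫ pullback.fst f gs)
      fun k => by rw [Category.assoc, pullback.condition, WidePullback.π_arrow_assoc]
  have hP := isPullback_fibPow f gs c' (fun k => WidePullback.lift_π _ _ _ _ k) (WidePullback.lift_base _ _ _ _)
  haveI := isClosedImmersion_fibPowMap (pullback.snd f gs) f'' (pullback.lift i f'' w) (pullback.lift_snd _ _ _) d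
  have : pullback.lift c (WidePullback.base fun _ : Fin d => f'') hcb =
      fibPowMap f'' d (pullback.snd f gs) (pullback.lift i f'' w) (pullback.lift_snd _ _ _) ≫ hP.isoPullback.hom := by
    apply pullback.hom_ext
    · rw [pullback.lift_fst, Category.assoc, IsPullback.isoPullback_hom_fst]
      apply WidePullback.hom_ext
      · intro k
        rw [hcπ, Category.assoc, WidePullback.lift_π, fibPowMap_π_assoc, pullback.lift_fst]
      · rw [hcb, Category.assoc, WidePullback.lift_base, fibPowMap_base_assoc]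
    · rw [pullback.lift_snd, Category.assoc, IsPullback.isoPullback_hom_snd, fibPowMap_base]
  rw [this]
  infer_instance

/-- Affine pieces of a closed subscheme of a base change, and their sections. -/
theorem gen_of_isClosedImmersion {P : Scheme.{u}} (f : X ⟶ S) (F : P ⟶ S'') (i : P ⟶ X) (gs : S'' ⟶ S)
    (w : i ≫ f = F ≫ gs) [IsClosedImmersion (pullback.lift i F w)] {V : S.Opens} {V'' : S''.Opens}
    (hV : IsAffineOpen V) (hV'' : IsAffineOpen V'') (hVV : V'' ≤ gs ⁻¹ᵁ V)
    {U : X.Opens} (hU : IsAffineOpen U) (hUV : U ≤ f ⁻¹ᵁ V)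
    (O : P.Opens) (hO : O = i ⁻¹ᵁ U ⊓ F ⁻¹ᵁ V'') (hOi : O ≤ i ⁻¹ᵁ U) (hOF : O ≤ F ⁻¹ᵁ V'') :
    letI := (F.appLE V'' O hOF).hom.toAlgebra
    IsAffineOpen O ∧ Submodule.span Γ(S'', V'') (Set.range (i.appLE U O hOi).hom) = ⊤ := by
  let j := pullback.lift i F w
  let T : (pullback f gs).Opens := pullback.fst f gs ⁻¹ᵁ U ⊓ pullback.snd f gs ⁻¹ᵁ V''
  have hT : IsAffineOpen T := by
    haveI : IsAffine (U : Scheme.{u}) := hU
    haveI : IsAffine (V : Scheme.{u}) := hV
    haveI : IsAffine (V'' : Scheme.{u}) := hV''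
    exact .of_isIso (Scheme.Hom.isPullback_resLE (IsPullback.of_hasPullback f gs) hVV hUV rfl).isoPullback.hom
  obtain rfl : O = j ⁻¹ᵁ T := by
    rw [hO]
    simp only [T, Scheme.Hom.preimage_inf, ← Scheme.Hom.comp_preimage, j, pullback.lift_fst, pullback.lift_snd]
  letI := (F.appLE V'' (j ⁻¹ᵁ T) hOF).hom.toAlgebra
  refine ⟨hT.preimage j, eq_top_iff.2 fun y _ => ?_⟩
  obtain ⟨x, rfl⟩ := Scheme.Hom.app_surjective j T hT y
  have hpo := (isIso_pushoutSection_iff (IsPullback.of_hasPullback f gs) hVV hUV rfl).mp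
    (isIso_pushoutSection_of_isAffineOpen (IsPullback.of_hasPullback f gs) hVV hUV rfl hV hV'' hU)
  letI := (f.appLE V U hUV).hom.toAlgebra
  letI := (gs.appLE V V'' hVV).hom.toAlgebra
  let A₀ := CommRingCat.isPushout_tensorProduct Γ(S, V) Γ(S'', V'') Γ(X, U)
  let e := (A₀.isoIsPushout _ _ hpo.flip).commRingCatIsoToRingEquiv
  have el : ∀ r, e (r ⊗ₜ 1) = ((pullback.snd f gs).appLE V'' T inf_le_right).hom r :=
    fun r => congr($(A₀.inl_isoIsPushout_hom _ _ hpo.flip) r)
  have er : ∀ a, e (1 ⊗ₜ a) = ((pullback.fst f gs).appLE U T inf_le_left).hom a :=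
    fun a => congr($(A₀.inr_isoIsPushout_hom _ _ hpo.flip) a)
  obtain ⟨t, rfl⟩ := e.surjective x
  induction t using TensorProduct.induction_on with
  | zero => rw [map_zero, map_zero]; exact Submodule.zero_mem _
  | tmul r a =>
    have h1 : (r ⊗ₜ[Γ(S, V)] a : Γ(S'', V'') ⊗[Γ(S, V)] Γ(X, U)) = (r ⊗ₜ 1) * (1 ⊗ₜ a) := by
      rw [Algebra.TensorProduct.tmul_mul_tmul, mul_one, one_mul]
    rw [h1, map_mul, map_mul, el, er]
    have h2 : (j.app T).hom (((pullback.snd f gs).appLE V'' T inf_le_right).hom r) =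
        (F.appLE V'' (j ⁻¹ᵁ T) hOF).hom r := by
      rw [Scheme.Hom.app_eq_appLE, ← CommRingCat.comp_apply, Scheme.Hom.appLE_comp_appLE,
        appLE_congr_hom (pullback.lift_snd i F w) V'' _ _ hOF]
    have h3 : (j.app T).hom (((pullback.fst f gs).appLE U T inf_le_left).hom a) =
        (i.appLE U (j ⁻¹ᵁ T) hOi).hom a := by
      rw [Scheme.Hom.app_eq_appLE, ← CommRingCat.comp_apply, Scheme.Hom.appLE_comp_appLE,
        appLE_congr_hom (pullback.lift_fst i F w) U _ _ hOi]
    rw [h2, h3]
    exact Submodule.smul_mem _ r (Submodule.subset_span ⟨a, rfl⟩)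
  | add u v hu hv => rw [map_add, map_add]; exact Submodule.add_mem _ (hu trivial) (hv trivial)

/-- Averaging: invariants of a spanned algebra are spanned by invariants when the order of the group is invertible. -/
theorem mem_span_fixed_unit {R R' A A' : Type u} [CommRing R] [CommRing R'] [CommRing A] [CommRing A'] [Algebra R A]
    [Algebra R' A'] {G : Type*} [Group G] [Fintype G] (act : G →* (A →ₐ[R] A)) (act' : G →* (A' →ₐ[R'] A'))
    (φ : A →+* A') (hφ : ∀ g x, φ (act g x) = act' g (φ x))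
    (hspan : Submodule.span R' (Set.range φ) = ⊤) (hn : IsUnit ((Fintype.card G : ℕ) : R'))
    {s : A'} (hs : s ∈ fixed act' (⊤ : Subgroup G)) :
    s ∈ Submodule.span R' (φ '' (fixed act (⊤ : Subgroup G) : Set A)) := by
  have h : ∀ x ∈ Submodule.span R' (Set.range φ),
      ∑ g, act' g x ∈ Submodule.span R' (φ '' (fixed act (⊤ : Subgroup G) : Set A)) := fun x hx => by
    induction hx using Submodule.span_induction with
    | mem y hy =>
      obtain ⟨a, rfl⟩ := hy
      refine Submodule.subset_span ⟨∑ g, act g a, fun k => ?_, ?_⟩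
      · rw [map_sum]
        exact Fintype.sum_equiv (Equiv.mulLeft k.1) _ _ fun g => (act_mul_apply act k.1 g a).symm
      · rw [map_sum]
        exact Finset.sum_congr rfl fun g _ => hφ g a
    | zero => simp
    | add y z _ _ hy hz => simp only [map_add, Finset.sum_add_distrib]; exact Submodule.add_mem _ hy hz
    | smul r y _ hy => simp only [map_smul, ← Finset.smul_sum]; exact Submodule.smul_mem _ r hy
  have h1 := h s (hspan ▸ Submodule.mem_top)
  rw [Finset.sum_congr rfl fun g _ => act_of_mem act' _ hs (g := g) trivial, Finset.sum_const,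
    Finset.card_univ, ← Nat.cast_smul_eq_nsmul R'] at h1
  obtain ⟨w, hw⟩ := hn
  rw [← hw] at h1
  have := Submodule.smul_mem _ ((w⁻¹ : R'ˣ) : R') h1
  rwa [smul_smul, Units.inv_mul, one_smul] at this

variable {Y Y'' : Scheme.{u}} {q : fibPow f d ⟶ Y} {g : Y ⟶ S} {r : fibPow f'' d ⟶ Y''} {g'' : Y'' ⟶ S''}
  {μ : Y'' ⟶ Y}

/-- The square relating the base changes of the fibre power and of the symmetric product. -/
theorem isPullback_map (hq : IsSymProd f d q g) (gs : S'' ⟶ S)
    (h : (pullback.fst (WidePullback.base fun _ : Fin d => f) gs ≫ q) ≫ g =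
      pullback.snd (WidePullback.base fun _ : Fin d => f) gs ≫ gs) :
    IsPullback (pullback.fst (WidePullback.base fun _ : Fin d => f) gs)
      (pullback.lift (pullback.fst (WidePullback.base fun _ : Fin d => f) gs ≫ q)
        (pullback.snd (WidePullback.base fun _ : Fin d => f) gs) h) q (pullback.fst g gs) := by
  refine IsPullback.of_bot ?_ (pullback.lift_fst _ _ _).symm (IsPullback.of_hasPullback g gs)
  rw [pullback.lift_snd, hq.over]
  exact IsPullback.of_hasPullback _ gs

/-- The charts of the base change of the symmetric product. -/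
theorem exists_nhd (g : Y ⟶ S) (gs : S'' ⟶ S) (z : ↑(pullback g gs)) :
    ∃ (V : S.Opens) (W' : Y.Opens) (V'' : S''.Opens), IsAffineOpen V ∧ IsAffineOpen W' ∧ IsAffineOpen V'' ∧
      W' ≤ g ⁻¹ᵁ V ∧ V'' ≤ gs ⁻¹ᵁ V ∧ z ∈ pullback.fst g gs ⁻¹ᵁ W' ⊓ pullback.snd g gs ⁻¹ᵁ V'' ∧
      IsAffineOpen (pullback.fst g gs ⁻¹ᵁ W' ⊓ pullback.snd g gs ⁻¹ᵁ V'') := by
  obtain ⟨V, hV, hzV, -⟩ := exists_isAffineOpen_mem_and_subset (X := S)
    (x := g (pullback.fst g gs z)) (U := ⊤) trivial
  obtain ⟨W', hW', hzW, hWV⟩ := exists_isAffineOpen_mem_and_subset (X := Y) (x := pullback.fst g gs z)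
    (U := g ⁻¹ᵁ V) hzV
  obtain ⟨V'', hV'', hzV'', hVV⟩ := exists_isAffineOpen_mem_and_subset (X := S'')
    (x := pullback.snd g gs z) (U := gs ⁻¹ᵁ V) (by
      show gs (pullback.snd g gs z) ∈ V
      rw [← Scheme.Hom.comp_apply, ← pullback.condition]; exact hzV)
  refine ⟨V, W', V'', hV, hW', hV'', hWV, hVV, ⟨hzW, hzV''⟩, ?_⟩
  haveI : IsAffine (W' : Scheme.{u}) := hW'
  haveI : IsAffine (V : Scheme.{u}) := hV
  haveI : IsAffine (V'' : Scheme.{u}) := hV''
  exact .of_isIso (Scheme.Hom.isPullback_resLE (IsPullback.of_hasPullback g gs) hVV hWV rfl).isoPullback.hom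

/-- Invariant sections over a chart are spanned by pullbacks of sections of the symmetric product. -/
theorem mem_span_of_fixed (w : i ≫ f = f'' ≫ gs) [IsClosedImmersion (pullback.lift i f'' w)]
    (hcπ : ∀ k, c ≫ WidePullback.π (fun _ => f) k = WidePullback.π (fun _ => f'') k ≫ i)
    (hcb : c ≫ WidePullback.base (fun _ => f) = WidePullback.base (fun _ => f'') ≫ gs)
    (hq : IsSymProd f d q g) (h : Flat f'' ∨ ∀ n : ℕ, 0 < n → IsUnit ((n : ℕ) : Γ(S'', ⊤)))
    {V : S.Opens} {V'' : S''.Opens} {W' : Y.Opens} (hV : IsAffineOpen V) (hV'' : IsAffineOpen V'')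
    (hW' : IsAffineOpen W') (hWV : W' ≤ g ⁻¹ᵁ V) (hVV : V'' ≤ gs ⁻¹ᵁ V)
    (O : (fibPow f'' d).Opens) (hO : O = (c ≫ q) ⁻¹ᵁ W' ⊓ (WidePullback.base fun _ : Fin d => f'') ⁻¹ᵁ V'')
    (hOV : O ≤ (WidePullback.base fun _ : Fin d => f'') ⁻¹ᵁ V'') (hOW : O ≤ (c ≫ q) ⁻¹ᵁ W')
    (hst : ∀ σ : Equiv.Perm (Fin d), O ≤ (permHom f'' d σ) ⁻¹ᵁ O)
    (t : Γ(fibPow f'' d, O)) (ht : ∀ σ : Equiv.Perm (Fin d), ((permHom f'' d σ).appLE O O (hst σ)).hom t = t) :
    letI := bAlg hOV
    t ∈ Submodule.span Γ(S'', V'') (Set.range ((c ≫ q).appLE W' O hOW).hom) := by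
  classical
  have hQ := hq.isQuot
  haveI := hQ.affine
  have hW : IsAffineOpen (q ⁻¹ᵁ W') := hW'.preimage q
  have hWV' : q ⁻¹ᵁ W' ≤ (WidePullback.base fun _ : Fin d => f) ⁻¹ᵁ V := by
    rw [← hq.over, Scheme.Hom.comp_preimage]; exact q.preimage_mono hWV
  have hstW : ∀ σ : Equiv.Perm (Fin d), q ⁻¹ᵁ W' ≤ (permHom f d σ⁻¹) ⁻¹ᵁ (q ⁻¹ᵁ W') := fun σ =>
    SGA1.preimage_le_of_inv _ q hQ.inv ⟨σ⁻¹⟩ W'
  have hst' : ∀ σ : Equiv.Perm (Fin d), O ≤ (permHom f'' d σ⁻¹) ⁻¹ᵁ O := fun σ => hst σ⁻¹
  have hcW : O ≤ c ⁻¹ᵁ (q ⁻¹ᵁ W') := hOW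
  haveI := isClosedImmersion_lift_fibPow w hcπ hcb
  obtain ⟨hOaff, hgen⟩ := gen_of_isClosedImmersion (WidePullback.base fun _ : Fin d => f)
    (WidePullback.base fun _ : Fin d => f'') c gs hcb hV hV'' hVV hW hWV' O hO hcW hOV
  letI := bAlg hOV
  letI := bAlg hWV'
  have hfix : t ∈ fixed (actHom hOV hst') (⊤ : Subgroup (Equiv.Perm (Fin d))) := fun σ => ht σ.1⁻¹
  have hmem : t ∈ Submodule.span Γ(S'', V'') ((c.appLE (q ⁻¹ᵁ W') O hcW).hom ''
      (fixed (actHom hWV' hstW) (⊤ : Subgroup (Equiv.Perm (Fin d))) : Set _)) := by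
    rcases h with hflat | hu
    · haveI := hflat
      exact mem_span_affine hcπ hcb w hV hV'' hVV
        (fun U hU hUV => gen_of_isClosedImmersion f f'' i gs w hV hV'' hVV hU hUV _ rfl inf_le_left inf_le_right)
        hW hWV' hstW hOaff hOV hcW hO.ge hst' hgen t hfix
    · refine mem_span_fixed_unit (actHom hWV' hstW) (actHom hOV hst') (c.appLE (q ⁻¹ᵁ W') O hcW).hom
        (fun σ x => appLE_actAlg hcπ hcb hWV' hOV hcW σ (hstW σ) (hst' σ) x) hgen ?_ hfix
      have := (hu _ (Fintype.card_pos (α := Equiv.Perm (Fin d)))).map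
        (S''.presheaf.map (homOfLE (le_top (a := V''))).op).hom
      rwa [map_natCast] at this
  refine Submodule.span_mono ?_ hmem
  rintro _ ⟨y, hy, rfl⟩
  obtain ⟨b, hb⟩ := (hQ.range_iff W' y).2 fun σ => by
    have h' := hy ⟨σ.down⁻¹, trivial⟩
    change ((permHom f d σ.down⁻¹⁻¹).appLE _ _ _).hom y = y at h'
    rw [appLE_congr_hom (show permHom f d σ.down⁻¹⁻¹ = permHom f d σ.down by rw [inv_inv]) _ _ _
      (SGA1.preimage_le_of_inv _ q hQ.inv σ W')] at h'
    exact h'
  refine ⟨b, ?_⟩
  rw [← hb, Scheme.Hom.app_eq_appLE, ← CommRingCat.comp_apply, Scheme.Hom.appLE_comp_appLE]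

/-- The comparison morphism is affine. -/
theorem isAffineHom_compare (w : i ≫ f = f'' ≫ gs) [IsClosedImmersion (pullback.lift i f'' w)]
    (hcπ : ∀ k, c ≫ WidePullback.π (fun _ => f) k = WidePullback.π (fun _ => f'') k ≫ i)
    (hcb : c ≫ WidePullback.base (fun _ => f) = WidePullback.base (fun _ => f'') ≫ gs)
    (hq : IsSymProd f d q g) (hr : IsSymProd f'' d r g'') (hμ : r ≫ μ = c ≫ q) (wμ : μ ≫ g = g'' ≫ gs) :
    IsAffineHom (pullback.lift μ g'' wμ) := by
  haveI := hq.isQuot.affine
  let m := pullback.lift μ g'' wμ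
  have hwq : (pullback.fst (WidePullback.base fun _ : Fin d => f) gs ≫ q) ≫ g =
      pullback.snd (WidePullback.base fun _ : Fin d => f) gs ≫ gs := by
    rw [Category.assoc, hq.over]; exact pullback.condition
  haveI : IsAffineHom (pullback.lift _ _ hwq) := MorphismProperty.of_isPullback (isPullback_map hq gs hwq) hq.isQuot.affine
  haveI := isClosedImmersion_lift_fibPow w hcπ hcb
  have hrm : r ≫ m = pullback.lift c (WidePullback.base fun _ : Fin d => f'') hcb ≫ pullback.lift _ _ hwq := by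
    apply pullback.hom_ext
    · rw [Category.assoc, pullback.lift_fst, hμ, Category.assoc, pullback.lift_fst, pullback.lift_fst_assoc]
    · rw [Category.assoc, pullback.lift_snd, hr.over, Category.assoc, pullback.lift_snd, pullback.lift_snd]
  exact (Groth.Agent.QuotScheme.isAffineHom_iff hr.isQuot hrm).1 inferInstance

/-- The comparison morphism is a closed immersion for flat morphisms and in characteristic zero. -/
theorem isClosedImmersion_compare (w : i ≫ f = f'' ≫ gs) [IsClosedImmersion (pullback.lift i f'' w)]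
    (hcπ : ∀ k, c ≫ WidePullback.π (fun _ => f) k = WidePullback.π (fun _ => f'') k ≫ i)
    (hcb : c ≫ WidePullback.base (fun _ => f) = WidePullback.base (fun _ => f'') ≫ gs)
    (hq : IsSymProd f d q g) (hr : IsSymProd f'' d r g'') (hμ : r ≫ μ = c ≫ q) (wμ : μ ≫ g = g'' ≫ gs)
    (h : Flat f'' ∨ ∀ n : ℕ, 0 < n → IsUnit ((n : ℕ) : Γ(S'', ⊤))) :
    IsClosedImmersion (pullback.lift μ g'' wμ) := by
  have hR := hr.isQuot
  let m := pullback.lift μ g'' wμ
  haveI : IsAffineHom m := isAffineHom_compare w hcπ hcb hq hr hμ wμ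
  choose V W' V'' hV hW' hV'' hWV hVV hz hN using exists_nhd g gs
  refine (HasAffineProperty.iff_of_iSup_eq_top (P := @IsClosedImmersion)
    (fun z => ⟨pullback.fst g gs ⁻¹ᵁ W' z ⊓ pullback.snd g gs ⁻¹ᵁ V'' z, hN z⟩)
    (TopologicalSpace.Opens.ext (Set.eq_univ_of_forall fun z => by
      simp only [TopologicalSpace.Opens.coe_iSup, Set.mem_iUnion]; exact ⟨z, hz z⟩))).2 fun z => ?_
  let N := pullback.fst g gs ⁻¹ᵁ W' z ⊓ pullback.snd g gs ⁻¹ᵁ V'' z
  refine ⟨(hN z).preimage m, ?_⟩
  suffices Function.Surjective (m.app N).hom by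
    have h' : ∀ O : (pullback g gs).Opens, O = N → Function.Surjective (m.app O).hom := by rintro _ rfl; exact this
    rw [Scheme.Hom.appTop, morphismRestrict_app]
    exact surjective_comp_isIso _ _ (h' _ (Scheme.Opens.ι_image_top _))
  intro s
  let O := r ⁻¹ᵁ (m ⁻¹ᵁ N)
  have hO : O = (c ≫ q) ⁻¹ᵁ W' z ⊓ (WidePullback.base fun _ : Fin d => f'') ⁻¹ᵁ V'' z := by
    simp only [O, N, m, ← hr.over, ← hμ, Scheme.Hom.preimage_inf, ← Scheme.Hom.comp_preimage, Category.assoc,
      pullback.lift_fst, pullback.lift_snd]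
  have hst : ∀ σ : Equiv.Perm (Fin d), O ≤ (permHom f'' d σ) ⁻¹ᵁ O := fun σ =>
    SGA1.preimage_le_of_inv _ r hR.inv ⟨σ⟩ _
  have ht : ∀ σ : Equiv.Perm (Fin d), ((permHom f'' d σ).appLE O O (hst σ)).hom ((r.app (m ⁻¹ᵁ N)).hom s) =
      (r.app (m ⁻¹ᵁ N)).hom s := fun σ => (hR.range_iff _ _).1 ⟨s, rfl⟩ ⟨σ⟩
  letI := bAlg (hO.le.trans inf_le_right)
  have hmem := mem_span_of_fixed w hcπ hcb hq h (hV z) (hV'' z) (hW' z) (hWV z) (hVV z) O hO
    (hO.le.trans inf_le_right) (hO.le.trans inf_le_left) hst _ ht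
  suffices ∃ n, (r.app (m ⁻¹ᵁ N)).hom ((m.app N).hom n) = (r.app (m ⁻¹ᵁ N)).hom s by
    obtain ⟨n, hn⟩ := this
    exact ⟨n, hR.injective _ hn⟩
  generalize (r.app (m ⁻¹ᵁ N)).hom s = t at hmem
  induction hmem using Submodule.span_induction with
  | mem y hy =>
    obtain ⟨b, rfl⟩ := hy
    refine ⟨((pullback.fst g gs).appLE (W' z) N inf_le_left).hom b, ?_⟩
    simp only [Scheme.Hom.app_eq_appLE, ← CommRingCat.comp_apply, Scheme.Hom.appLE_comp_appLE]
    exact congr($(appLE_congr_hom (show (r ≫ m) ≫ pullback.fst g gs = c ≫ q by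
      rw [Category.assoc, pullback.lift_fst, hμ]) _ _ _ _) b)
  | zero => exact ⟨0, by rw [map_zero, map_zero]⟩
  | add y y' _ _ hy hy' =>
    obtain ⟨a, ha⟩ := hy
    obtain ⟨a', ha'⟩ := hy'
    exact ⟨a + a', by rw [map_add, map_add, ha, ha']⟩
  | smul v y _ hy =>
    obtain ⟨a, ha⟩ := hy
    refine ⟨((pullback.snd g gs).appLE (V'' z) N inf_le_right).hom v * a, ?_⟩
    rw [map_mul, map_mul, ha, Algebra.smul_def]
    congr 1
    simp only [Scheme.Hom.app_eq_appLE, ← CommRingCat.comp_apply, Scheme.Hom.appLE_comp_appLE]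
    exact congr($(appLE_congr_hom (show (r ≫ m) ≫ pullback.snd g gs = WidePullback.base _ by
      rw [Category.assoc, pullback.lift_snd, hr.over]) _ _ _ _) v)

/-- Residue field maps of preimmersions are surjective. -/
theorem residueFieldMap_surjective_of_isPreimmersion {A B : Scheme.{u}} (h : A ⟶ B) [IsPreimmersion h] (a : A) :
    Function.Surjective (h.residueFieldMap a).hom := fun x => by
  obtain ⟨s, rfl⟩ := A.residue_surjective a x
  obtain ⟨t, rfl⟩ := h.stalkMap_surjective a s
  exact ⟨B.residue (h a) t, congr($(Scheme.residue_residueFieldMap h a) t)⟩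

/-- The residue field of the comparison morphism, read after a base change to a field. -/
theorem residueFieldMap_surjective_aux (w : i ≫ f = f'' ≫ gs) [IsClosedImmersion (pullback.lift i f'' w)]
    (hcπ : ∀ k, c ≫ WidePullback.π (fun _ => f) k = WidePullback.π (fun _ => f'') k ≫ i)
    (hcb : c ≫ WidePullback.base (fun _ => f) = WidePullback.base (fun _ => f'') ≫ gs)
    (hq : IsSymProd f d q g) (hr : IsSymProd f'' d r g'') (hμ : r ≫ μ = c ≫ q) (wμ : μ ≫ g = g'' ≫ gs)
    {T : Scheme.{u}} [IsAffine T] [Subsingleton T] (h : T ⟶ S'') [IsPreimmersion h] [Flat (pullback.snd f'' h)]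
    (c' : fibPow (pullback.snd f'' h) d ⟶ fibPow f'' d)
    (hc'π : ∀ k, c' ≫ WidePullback.π (fun _ => f'') k =
      WidePullback.π (fun _ => pullback.snd f'' h) k ≫ pullback.fst f'' h)
    (hc'b : c' ≫ WidePullback.base (fun _ => f'') = WidePullback.base (fun _ => pullback.snd f'' h) ≫ h)
    (z : ↑(fibPow (pullback.snd f'' h) d)) :
    Function.Surjective ((pullback.lift μ g'' wμ).residueFieldMap ((c' ≫ r) z)).hom := by
  let m := pullback.lift μ g'' wμ
  let p := c' ≫ r
  haveI : IsClosedImmersion (pullback.lift (pullback.fst f'' h ≫ i) (pullback.snd f'' h)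
      (show (pullback.fst f'' h ≫ i) ≫ f = pullback.snd f'' h ≫ h ≫ gs by
        rw [Category.assoc, w, pullback.condition_assoc])) := by
    let b : pullback f (h ≫ gs) ⟶ pullback f gs := pullback.lift (pullback.fst _ _) (pullback.snd _ _ ≫ h)
      (by rw [Category.assoc]; exact pullback.condition)
    have sq : IsPullback b (pullback.snd f (h ≫ gs)) (pullback.snd f gs) h := by
      refine IsPullback.of_right ?_ (pullback.lift_snd _ _ _) (IsPullback.of_hasPullback f gs)
      rw [pullback.lift_fst]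
      exact IsPullback.of_hasPullback f (h ≫ gs)
    refine MorphismProperty.of_isPullback (P := @IsClosedImmersion) (g := pullback.lift i f'' w) (g' := pullback.lift
      (pullback.fst f'' h ≫ i) (pullback.snd f'' h) (show (pullback.fst f'' h ≫ i) ≫ f = pullback.snd f'' h ≫ h ≫ gs by
        rw [Category.assoc, w, pullback.condition_assoc])) (f := b) (f' := pullback.fst f'' h)
      (IsPullback.of_bot ?_ ?_ sq) inferInstance
    · rw [pullback.lift_snd, pullback.lift_snd]
      exact IsPullback.of_hasPullback f'' h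
    · apply pullback.hom_ext <;>
        simp only [b, Category.assoc, pullback.lift_fst, pullback.lift_snd, pullback.lift_fst_assoc,
          pullback.lift_snd_assoc, pullback.condition]
  have hc3π : ∀ k, (c' ≫ c) ≫ WidePullback.π (fun _ => f) k =
      WidePullback.π (fun _ => pullback.snd f'' h) k ≫ pullback.fst f'' h ≫ i := fun k => by
    rw [Category.assoc, hcπ, reassoc_of% (hc'π k)]
  have hc3b : (c' ≫ c) ≫ WidePullback.base (fun _ => f) =
      WidePullback.base (fun _ => pullback.snd f'' h) ≫ h ≫ gs := by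
    rw [Category.assoc, hcb, reassoc_of% hc'b]
  obtain ⟨V, W', V'', hV, hW', hV'', hWV, hVV, hz, hN⟩ := exists_nhd g gs (m (p z))
  let N := pullback.fst g gs ⁻¹ᵁ W' ⊓ pullback.snd g gs ⁻¹ᵁ V''
  haveI : IsAffineHom r := hr.isQuot.affine
  let Q := p ⁻¹ᵁ (m ⁻¹ᵁ N)
  have hbh : WidePullback.base (fun _ : Fin d => pullback.snd f'' h) ≫ h = (p ≫ m) ≫ pullback.snd g gs := by
    simp only [p, m, Category.assoc, pullback.lift_snd, hr.over, hc'b]
  have hcq : (c' ≫ c) ≫ q = (p ≫ m) ≫ pullback.fst g gs := by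
    simp only [p, m, Category.assoc, pullback.lift_fst, hμ]
  have hT : (⊤ : T.Opens) ≤ h ⁻¹ᵁ V'' := fun x _ => by
    rw [Subsingleton.elim x (WidePullback.base (fun _ : Fin d => pullback.snd f'' h) z)]
    show (WidePullback.base (fun _ : Fin d => pullback.snd f'' h) ≫ h) z ∈ V''
    rw [hbh]
    exact hz.2
  let O := ((c' ≫ c) ≫ q) ⁻¹ᵁ W' ⊓ (WidePullback.base fun _ : Fin d => pullback.snd f'' h) ⁻¹ᵁ ⊤
  have hzQ : z ∈ Q := hz
  have hOQ : O = Q := by
    refine le_antisymm ?_ ?_
    · intro x hx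
      refine ⟨?_, ?_⟩
      · show (((p ≫ m) ≫ pullback.fst g gs) x) ∈ W'
        rw [← hcq]; exact hx.1
      · show (((p ≫ m) ≫ pullback.snd g gs) x) ∈ V''
        rw [← hbh]; exact hT (x := (WidePullback.base (fun _ : Fin d => pullback.snd f'' h)) x) trivial
    · intro x hx
      refine ⟨?_, trivial⟩
      show (((c' ≫ c) ≫ q) x) ∈ W'
      rw [hcq]; exact hx.1
  have hQW : Q ≤ ((c' ≫ c) ≫ q) ⁻¹ᵁ W' := hOQ.ge.trans inf_le_left
  have hpinv : ∀ σ : Equiv.Perm (Fin d), permHom (pullback.snd f'' h) d σ ≫ p = p := fun σ => by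
    simp only [p]
    rw [reassoc_of% (perm_comm (f := f'') hc'π hc'b σ)]
    exact congrArg (c' ≫ ·) (hr.isQuot.inv ⟨σ⟩)
  have hst : ∀ σ : Equiv.Perm (Fin d), Q ≤ (permHom (pullback.snd f'' h) d σ) ⁻¹ᵁ Q := fun σ => by
    rw [← Scheme.Hom.comp_preimage, hpinv]
  letI := bAlg (show Q ≤ (WidePullback.base fun _ : Fin d => pullback.snd f'' h) ⁻¹ᵁ (⊤ : T.Opens) from fun _ _ => trivial)
  let F := ((p ≫ m).residueFieldMap z).hom.fieldRange
  have hev : ∀ {R : Scheme.{u}} (k : pullback g gs ⟶ R) (U : R.Opens) (e : N ≤ k ⁻¹ᵁ U) (e' : Q ≤ ((p ≫ m) ≫ k) ⁻¹ᵁ U)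
      (a : Γ(R, U)), (fibPow (pullback.snd f'' h) d).evaluation Q z hzQ ((((p ≫ m) ≫ k).appLE U Q e').hom a) ∈ F :=
    fun k U e e' a => ⟨(pullback g gs).evaluation N ((p ≫ m) z) hz ((k.appLE U N e).hom a), by
      rw [Groth.Agent.QuotScheme.evaluation_appLE (p ≫ m) (le_refl Q : Q ≤ (p ≫ m) ⁻¹ᵁ N) z hzQ, ← CommRingCat.comp_apply
        (k.appLE U N e), Scheme.Hom.appLE_comp_appLE]⟩
  have hevT : ∀ v : Γ(T, ⊤), (fibPow (pullback.snd f'' h) d).evaluation Q z hzQ
      (((WidePullback.base fun _ : Fin d => pullback.snd f'' h).appLE ⊤ Q fun _ _ => trivial).hom v) ∈ F := fun v => by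
    let bz := WidePullback.base (fun _ : Fin d => pullback.snd f'' h) z
    rw [← Groth.Agent.QuotScheme.evaluation_appLE]
    obtain ⟨x, hx⟩ := residueFieldMap_surjective_of_isPreimmersion h bz (T.evaluation ⊤ bz trivial v)
    obtain ⟨a, b, hab⟩ := Groth.Agent.QuotScheme.exists_evaluation_div hV'' ⟨h bz, hT trivial⟩ x
    change (WidePullback.base (fun _ : Fin d => pullback.snd f'' h)).residueFieldMap z
      (T.evaluation ⊤ bz trivial v) ∈ F
    rw [← hx, hab, map_div₀, map_div₀]
    have key : ∀ a : Γ(S'', V''), (WidePullback.base (fun _ : Fin d => pullback.snd f'' h)).residueFieldMap z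
        (h.residueFieldMap bz (S''.evaluation V'' (h bz) (hT trivial) a)) ∈ F := fun a => by
      have e2 := Groth.Agent.QuotScheme.evaluation_appLE (WidePullback.base (fun _ : Fin d => pullback.snd f'' h))
        (U := (⊤ : T.Opens)) (V := Q) (fun _ _ => trivial) z hzQ ((h.appLE V'' ⊤ hT).hom a)
      rw [Groth.Agent.QuotScheme.evaluation_appLE h hT bz trivial]
      erw [e2]
      have e3 : ((WidePullback.base (fun _ : Fin d => pullback.snd f'' h)).appLE ⊤ Q (fun _ _ => trivial)).hom
          ((h.appLE V'' ⊤ hT).hom a) = (((p ≫ m) ≫ pullback.snd g gs).appLE V'' Q (fun x hx => hx.2)).hom a := by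
        rw [← CommRingCat.comp_apply, Scheme.Hom.appLE_comp_appLE, appLE_congr_hom hbh]
      rw [e3]
      exact hev _ V'' inf_le_right _ a
    exact F.div_mem (key a) (key b)
  -- values of sections of the symmetric product
  have hsec : ∀ a : Γ(Y'', m ⁻¹ᵁ N), (p.residueFieldMap z).hom (Y''.evaluation (m ⁻¹ᵁ N) (p z) hz a) ∈ F := fun a => by
    change p.residueFieldMap z _ ∈ F
    rw [Groth.Agent.QuotScheme.evaluation_appLE p (le_refl Q) z hzQ]
    have hmem := mem_span_of_fixed (f'' := pullback.snd f'' h) (gs := h ≫ gs) _ hc3π hc3b hq (Or.inl inferInstance) hV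
      (isAffineOpen_top T) hW' hWV (fun x hx => hVV (hT hx)) Q hOQ.symm (fun _ _ => trivial) hQW hst
      ((p.appLE (m ⁻¹ᵁ N) Q le_rfl).hom a) fun σ => by
        rw [← CommRingCat.comp_apply, Scheme.Hom.appLE_comp_appLE, appLE_congr_hom (hpinv σ) _ _ _ le_rfl]
    generalize (p.appLE (m ⁻¹ᵁ N) Q le_rfl).hom a = t at hmem
    induction hmem using Submodule.span_induction with
    | mem y hy =>
      obtain ⟨b, rfl⟩ := hy
      have e : Q ≤ ((p ≫ m) ≫ pullback.fst g gs) ⁻¹ᵁ W' := fun x hx => hx.1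
      rw [appLE_congr_hom hcq _ _ hQW e]
      exact hev _ W' inf_le_left e b
    | zero => rw [map_zero]; exact F.zero_mem
    | add y y' _ _ hy hy' => rw [map_add]; exact F.add_mem hy hy'
    | smul v y _ hy =>
      rw [Algebra.smul_def, map_mul]
      exact F.mul_mem (hevT v) hy
  intro x
  obtain ⟨a, b, hab⟩ := Groth.Agent.QuotScheme.exists_evaluation_div (haveI : IsAffineHom m := isAffineHom_compare w hcπ hcb hq hr hμ wμ
      hN.preimage m) ⟨p z, hz⟩ x
  obtain ⟨y, hy⟩ : (p.residueFieldMap z).hom x ∈ F := by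
    rw [hab, map_div₀]
    exact F.div_mem (hsec a) (hsec b)
  refine ⟨y, (p.residueFieldMap z).hom.injective ?_⟩
  rw [← hy]
  exact congr($((Scheme.residueFieldMap_comp p m z).symm) y)

/-- The comparison morphism has trivial residue field extensions. -/
theorem residueFieldMap_compare_surjective (w : i ≫ f = f'' ≫ gs) [IsClosedImmersion (pullback.lift i f'' w)]
    (hcπ : ∀ k, c ≫ WidePullback.π (fun _ => f) k = WidePullback.π (fun _ => f'') k ≫ i)
    (hcb : c ≫ WidePullback.base (fun _ => f) = WidePullback.base (fun _ => f'') ≫ gs)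
    (hq : IsSymProd f d q g) (hr : IsSymProd f'' d r g'') (hμ : r ≫ μ = c ≫ q) (wμ : μ ≫ g = g'' ≫ gs) (y : Y'') :
    Function.Surjective ((pullback.lift μ g'' wμ).residueFieldMap y).hom := by
  obtain ⟨x, hx⟩ := Groth.Agent.QuotScheme.surjective hr.isQuot y
  let h := S''.fromSpecResidueField (g'' y)
  let c' : fibPow (pullback.snd f'' h) d ⟶ fibPow f'' d :=
    WidePullback.lift (WidePullback.base _ ≫ h) (fun k => WidePullback.π _ k ≫ pullback.fst f'' h)
      fun k => by rw [Category.assoc, pullback.condition, WidePullback.π_arrow_assoc]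
  have hc'π : ∀ k, c' ≫ WidePullback.π (fun _ => f'') k =
      WidePullback.π (fun _ => pullback.snd f'' h) k ≫ pullback.fst f'' h := fun k => WidePullback.lift_π _ _ _ _ k
  have hc'b : c' ≫ WidePullback.base (fun _ => f'') = WidePullback.base (fun _ => pullback.snd f'' h) ≫ h :=
    WidePullback.lift_base _ _ _ _
  have hP := isPullback_fibPow f'' h c' hc'π hc'b
  have hxb : (WidePullback.base fun _ : Fin d => f'') x = g'' y := by
    rw [← hx, ← hr.over, Scheme.Hom.comp_apply]
  have hx' : (WidePullback.base fun _ : Fin d => f'') x ∈ Set.range h := by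
    rw [Scheme.range_fromSpecResidueField, hxb]; rfl
  obtain ⟨k, hk⟩ := hx'
  obtain ⟨z₀, hz₀, -⟩ := Scheme.Pullback.exists_preimage_pullback (f := WidePullback.base fun _ : Fin d => f'') (g := h)
    x k hk.symm
  have hz : c' (hP.isoPullback.inv z₀) = x := by
    rw [← Scheme.Hom.comp_apply, IsPullback.isoPullback_inv_fst, hz₀]
  have := residueFieldMap_surjective_aux w hcπ hcb hq hr hμ wμ h c' hc'π hc'b (hP.isoPullback.inv z₀)
  rwa [show (c' ≫ r) (hP.isoPullback.inv z₀) = y by rw [Scheme.Hom.comp_apply, hz, hx]] at this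

/-- A morphism between two quotients by the same action is an isomorphism. -/
theorem isIso_of_isQuot_comp {X Y Y' : Scheme.{u}} {G : Type u} [Group G] [Finite G] {ρ : G →* Aut X}
    {p : X ⟶ Y} {p' : X ⟶ Y'} (hp : SGA1.IsQuot ρ p) (hp' : SGA1.IsQuot ρ p') (m : Y ⟶ Y') (h : p ≫ m = p') :
    IsIso m := by
  obtain ⟨b, hb, -⟩ := Groth.Agent.QuotScheme.existsUnique_desc hp' p hp.inv
  haveI := Groth.Agent.QuotScheme.epi hp
  haveI := Groth.Agent.QuotScheme.epi hp'
  exact ⟨b, by rw [← cancel_epi p, reassoc_of% h, hb, Category.comp_id],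
    by rw [← cancel_epi p', reassoc_of% hb, h, Category.comp_id]⟩

/-- An isomorphism of residue fields from surjectivity. -/
theorem isIso_residueFieldMap {A B : Scheme.{u}} (h : A ⟶ B) (a : A)
    (hs : Function.Surjective (h.residueFieldMap a).hom) : IsIso (h.residueFieldMap a) :=
  (ConcreteCategory.isIso_iff_bijective _).2 ⟨RingHom.injective _, hs⟩

end Groth.Agent.SymProdLib
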