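import Mathlib.RingTheory.Invariant.Basic
import Mathlib.RingTheory.Flat.Basic
import Mathlib.RingTheory.Flat.Stability
import Mathlib.RingTheory.Localization.BaseChange
import Mathlib.RingTheory.Ideal.GoingUp
import Mathlib.GroupTheory.GroupAction.Quotient

/-!
# Transfer from the invariants of a subgroup

A finite group `G` acts on an algebra `A`. If near every prime `P` some element `a` fixed by a subgroup
`H` satisfies `a ∉ P` and `g a ∈ P` for `g ∉ H`, then properties of `(A^H)[1/a]` pass to `A^G` by means of
the sums over cosets of the elements `a ^ N * x`.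
-/

set_option autoImplicit false
set_option backward.isDefEq.respectTransparency false
set_option backward.isDefEq.respectTransparency.types false
set_option linter.unusedSectionVars false
set_option linter.style.haveILetI false

universe u

open scoped TensorProduct

namespace Groth.Agent.SymProdLib

variable {R A : Type u} [CommRing R] [CommRing A] [Algebra R A]

/-- The subalgebra fixed by a family of endomorphisms. -/
def fix {ι : Type*} (σ : ι → A →ₐ[R] A) : Subalgebra R A where
  carrier := {a | ∀ i, σ i a = a}
  mul_mem' ha hb i := by rw [map_mul, ha i, hb i]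
  add_mem' ha hb i := by rw [map_add, ha i, hb i]
  algebraMap_mem' r i := (σ i).commutes r

theorem mem_fix {ι : Type*} {σ : ι → A →ₐ[R] A} {a : A} : a ∈ fix σ ↔ ∀ i, σ i a = a := Iff.rfl

variable {G : Type*} [Group G] (act : G →* (A →ₐ[R] A)) (H : Subgroup G)

/-- The invariants of a subgroup. -/
abbrev fixed : Subalgebra R A := fix fun h : H => act h

theorem act_of_mem {a : A} (ha : a ∈ fixed act H) {g : G} (hg : g ∈ H) : act g a = a := ha ⟨g, hg⟩

theorem act_mul_apply (g g' : G) (a : A) : act (g * g') a = act g (act g' a) := by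
  rw [map_mul]; rfl

theorem fixed_top_le : fixed act (⊤ : Subgroup G) ≤ fixed act H := fun _ ha h => ha ⟨h.1, trivial⟩

theorem act_out {a : A} (ha : a ∈ fixed act H) (g : G) :
    act (Quotient.out (QuotientGroup.mk g : G ⧸ H)) a = act g a := by
  obtain ⟨h, hh⟩ := QuotientGroup.mk_out_eq_mul H g
  rw [hh, act_mul_apply, act_of_mem act H ha h.2]

variable [Fintype G] [DecidablePred (· ∈ H)]

/-- Sum over the cosets. -/
noncomputable def trace (a : A) : A := ∑ q : G ⧸ H, act q.out a

theorem trace_mem {a : A} (ha : a ∈ fixed act H) : trace act H a ∈ fixed act (⊤ : Subgroup G) := by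
  rintro ⟨g, -⟩
  change act g (trace act H a) = trace act H a
  rw [trace, map_sum]
  refine Fintype.sum_equiv (MulAction.toPerm g) _ _ fun q => ?_
  obtain ⟨x, rfl⟩ := QuotientGroup.mk_surjective q
  rw [MulAction.toPerm_apply, show g • (QuotientGroup.mk x : G ⧸ H) = QuotientGroup.mk (g * x) from rfl,
    act_out act H ha, act_out act H ha, act_mul_apply]

theorem trace_mul {t : A} (ht : t ∈ fixed act (⊤ : Subgroup G)) (a : A) :
    trace act H (t * a) = t * trace act H a := by
  rw [trace, trace, Finset.mul_sum]
  exact Finset.sum_congr rfl fun q _ => by rw [map_mul, act_of_mem act _ ht trivial]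

theorem trace_add (a b : A) : trace act H (a + b) = trace act H a + trace act H b := by
  simp only [trace, map_add, Finset.sum_add_distrib]

theorem trace_smul (r : R) (a : A) : trace act H (r • a) = r • trace act H a := by
  simp only [trace, map_smul, Finset.smul_sum]

theorem trace_sub_mem (P : Ideal A) {a : A} (ha : a ∈ fixed act H) (hP : ∀ g, g ∉ H → act g a ∈ P) :
    trace act H a - a ∈ P := by
  classical
  rw [trace, ← Finset.add_sum_erase _ _ (Finset.mem_univ (QuotientGroup.mk 1 : G ⧸ H)), act_out act H ha,
    map_one, AlgHom.one_apply, add_sub_cancel_left]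
  refine P.sum_mem fun q hq => hP _ fun hmem => (Finset.mem_erase.1 hq).1 ?_
  rw [← q.out_eq]
  exact QuotientGroup.eq.2 (by simpa using hmem)

theorem trace_notMem (P : Ideal A) [P.IsPrime] {a : A} (ha : a ∈ fixed act H) (haP : a ∉ P)
    (hP : ∀ g, g ∉ H → act g a ∈ P) (N : ℕ) : trace act H (a ^ (N + 1)) ∉ P := by
  intro h
  have h2 := trace_sub_mem act H P ((fixed act H).pow_mem ha (N + 1)) fun g hg => by
    rw [map_pow]
    exact P.pow_mem_of_mem (hP g hg) _ N.succ_pos
  have : a ^ (N + 1) ∈ P := by simpa using P.sub_mem h h2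
  exact haP (Ideal.IsPrime.mem_of_pow_mem inferInstance _ this)

/-- The sum over cosets as a linear map. -/
noncomputable def traceLin : fixed act H →ₗ[R] fixed act (⊤ : Subgroup G) where
  toFun a := ⟨trace act H a.1, trace_mem act H a.2⟩
  map_add' a b := Subtype.ext (trace_add act H a.1 b.1)
  map_smul' r a := Subtype.ext (trace_smul act H r a.1)

theorem isIntegral_fixed_top : Algebra.IsIntegral (fixed act (⊤ : Subgroup G)) A := by
  letI : MulSemiringAction G A :=
    { smul := fun g a => act g a
      one_smul := fun a => show act 1 a = a by rw [map_one]; rfl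
      mul_smul := fun g g' a => act_mul_apply act g g' a
      smul_zero := fun g => map_zero (act g)
      smul_add := fun g => map_add (act g)
      smul_one := fun g => map_one (act g)
      smul_mul := fun g => map_mul (act g) }
  haveI : SMulCommClass G (fixed act (⊤ : Subgroup G)) A := ⟨fun g t a => by
    change act g (t.1 * a) = t.1 * act g a
    rw [map_mul, act_of_mem act _ t.2 trivial]⟩
  haveI : Algebra.IsInvariant (fixed act (⊤ : Subgroup G)) A G :=
    ⟨fun b hb => ⟨⟨b, fun g => hb g.1⟩, rfl⟩⟩
  exact Algebra.IsInvariant.isIntegral _ A G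

section Localization

variable {L : Type u} [CommRing L] [Algebra R L] {ι : Type*} [Finite ι]
  {σ : ι → A →ₐ[R] A} {τ : ι → L →ₐ[R] L} (res : A →ₐ[R] L) (hres : ∀ i x, res (σ i x) = τ i (res x))

include hres in
theorem map_mem_fix {x : A} (hx : x ∈ fix σ) : res x ∈ fix τ := fun i => by rw [← hres, hx i]

/-- The map on fixed subalgebras. -/
def fixMap : fix σ →ₐ[R] fix τ :=
  (res.comp (fix σ).val).codRestrict (fix τ) fun x => map_mem_fix res hres x.2

include hres in
/-- Invariants of a localization at an invariant element come from invariants. -/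
theorem exists_fix_lift {a : A} (ha : a ∈ fix σ)
    (hloc : letI := res.toRingHom.toAlgebra; IsLocalization.Away a L) {y : L} (hy : y ∈ fix τ) :
    ∃ N : ℕ, ∃ v ∈ fix σ, res v = y * res a ^ N := by
  letI := res.toRingHom.toAlgebra
  cases nonempty_fintype ι
  classical
  obtain ⟨⟨v₀, ⟨_, N₀, rfl⟩⟩, hv₀⟩ := IsLocalization.surj (Submonoid.powers a) y
  change y * res (a ^ N₀) = res v₀ at hv₀
  have h : ∀ i, ∃ M : ℕ, a ^ M * σ i v₀ = a ^ M * v₀ := fun i => by
    have : res (σ i v₀) = res v₀ := by
      rw [hres, ← hv₀, map_mul, hy i, ← hres, map_pow (σ i), ha i]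
    obtain ⟨⟨_, M, rfl⟩, hM⟩ := IsLocalization.exists_of_eq (M := Submonoid.powers a) (S := L) this
    exact ⟨M, hM⟩
  choose M hM using h
  let K := Finset.univ.sup M
  refine ⟨N₀ + K, a ^ K * v₀, fun i => ?_, ?_⟩
  · obtain ⟨c, hc⟩ := Nat.exists_eq_add_of_le (show M i ≤ K from Finset.le_sup (Finset.mem_univ i))
    rw [map_mul, map_pow, ha i, hc, pow_add, mul_comm (a ^ M i), mul_assoc, mul_assoc, hM i]
  · rw [map_mul, map_pow, ← hv₀, map_pow, pow_add]; ring

include hres in
theorem isLocalization_fix {a : A} (ha : a ∈ fix σ)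
    (hloc : letI := res.toRingHom.toAlgebra; IsLocalization.Away a L) :
    letI := (fixMap res hres).toRingHom.toAlgebra
    IsLocalization.Away (⟨a, ha⟩ : fix σ) (fix τ) := by
  letI := res.toRingHom.toAlgebra
  letI := (fixMap res hres).toRingHom.toAlgebra
  refine IsLocalization.Away.mk _ ?_ (fun y => ?_) (fun x y h => ?_)
  · have hu : IsUnit (res a) := IsLocalization.Away.algebraMap_isUnit a
    obtain ⟨w, hw⟩ := id hu
    refine IsUnit.of_mul_eq_one ⟨((w⁻¹ : Lˣ) : L), fun i => ?_⟩ (Subtype.ext ?_)
    · have h1 : τ i (res a) = res a := by rw [← hres, ha i]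
      apply hu.mul_right_cancel
      conv_lhs => rw [← h1, ← map_mul]
      rw [← hw, Units.inv_mul, map_one]
    · change res a * ((w⁻¹ : Lˣ) : L) = 1
      rw [← hw, Units.mul_inv]
  · obtain ⟨N, v, hv, hvy⟩ := exists_fix_lift res hres ha hloc y.2
    refine ⟨N, ⟨v, hv⟩, Subtype.ext ?_⟩
    change y.1 * res a ^ N = res v
    rw [hvy]
  · have h' : res x.1 = res y.1 := congrArg Subtype.val h
    obtain ⟨⟨_, M, rfl⟩, hM⟩ := IsLocalization.exists_of_eq (M := Submonoid.powers a) (S := L) h'
    exact ⟨M, Subtype.ext hM⟩

end Localization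

/-- Flatness of the invariants from flatness of the localized invariants of subgroups. -/
theorem flat_fixed_top
    (hloc : ∀ P : Ideal A, P.IsPrime → ∃ (H : Subgroup G) (a : fixed act H), (a : A) ∉ P ∧
      (∀ g, g ∉ H → act g a ∈ P) ∧ ∃ (F : Type u) (_ : CommRing F) (_ : Algebra R F)
        (_ : Algebra (fixed act H) F), IsScalarTower R (fixed act H) F ∧ IsLocalization.Away a F ∧
        Module.Flat R F) :
    Module.Flat R (fixed act (⊤ : Subgroup G)) := by
  classical
  refine Module.Flat.iff_lTensor_preserves_injective_linearMap.2 fun P P' _ _ _ _ f hf => ?_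
  refine (injective_iff_map_eq_zero _).2 fun z hz => ?_
  let J : Ideal (fixed act (⊤ : Subgroup G)) :=
    { carrier := {t | (LinearMap.mulLeft R t).rTensor P z = 0}
      add_mem' := fun {s t} hs ht => by
        simp only [Set.mem_ofPred_eq] at hs ht ⊢
        rw [show LinearMap.mulLeft R (s + t) = LinearMap.mulLeft R s + LinearMap.mulLeft R t from
          LinearMap.ext fun x => add_mul s t x, LinearMap.rTensor_add, LinearMap.add_apply, hs, ht, add_zero]
      zero_mem' := by
        simp only [Set.mem_ofPred_eq]
        rw [show LinearMap.mulLeft R (0 : fixed act (⊤ : Subgroup G)) = 0 from LinearMap.ext fun x => zero_mul x,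
          LinearMap.rTensor_zero, LinearMap.zero_apply]
      smul_mem' := fun c {t} ht => by
        simp only [Set.mem_ofPred_eq, smul_eq_mul] at ht ⊢
        rw [show LinearMap.mulLeft R (c * t) = LinearMap.mulLeft R c ∘ₗ LinearMap.mulLeft R t from
          LinearMap.ext fun x => mul_assoc c t x, LinearMap.rTensor_comp, LinearMap.comp_apply, ht, map_zero] }
  suffices h1 : (1 : fixed act (⊤ : Subgroup G)) ∈ J by
    have : (LinearMap.mulLeft R (1 : fixed act (⊤ : Subgroup G))).rTensor P z = 0 := h1
    rwa [LinearMap.mulLeft_one, LinearMap.rTensor_id, LinearMap.id_apply] at this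
  by_contra h1
  obtain ⟨m, hm, hJm⟩ := J.exists_le_maximal fun h => h1 (h ▸ Submodule.mem_top)
  haveI := isIntegral_fixed_top act
  obtain ⟨Q, hQ', hQm⟩ := Ideal.exists_ideal_over_maximal_of_isIntegral (S := A) m (fun x hx => by rw [(Subtype.ext hx : x = 0)]; exact m.zero_mem)
  haveI := hQ'.isPrime
  obtain ⟨H, a, haQ, hga, F, _, _, _, hT, hL, hF⟩ := hloc Q inferInstance
  let incl : fixed act (⊤ : Subgroup G) →ₐ[R] fixed act H := Subalgebra.inclusion (fixed_top_le act H)
  let zH : fixed act H ⊗[R] P := incl.toLinearMap.rTensor P z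
  let toF : fixed act H →ₗ[R] F := (IsScalarTower.toAlgHom R (fixed act H) F).toLinearMap
  have h0 : toF.rTensor P zH = 0 := by
    apply Module.Flat.lTensor_preserves_injective_linearMap (M := F) f hf
    rw [map_zero]
    simp only [zH]
    rw [← LinearMap.comp_apply (toF.rTensor P), ← LinearMap.rTensor_comp, ← LinearMap.comp_apply,
      LinearMap.lTensor_comp_rTensor, ← LinearMap.rTensor_comp_lTensor, LinearMap.comp_apply, hz, map_zero]
  have hN : ∃ N : ℕ, a ^ N • zH = 0 := by
    have e : ∀ w : fixed act H ⊗[R] P, TensorProduct.AlgebraTensorModule.cancelBaseChange R (fixed act H) F F P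
        (TensorProduct.mk (fixed act H) F _ 1 w) = toF.rTensor P w := fun w => by
      induction w with
      | zero => simp
      | tmul x p => simp [toF, Algebra.smul_def]
      | add u v hu hv => simp only [map_add, hu, hv]
    have h2 : TensorProduct.mk (fixed act H) F (fixed act H ⊗[R] P) 1 zH = 0 :=
      (TensorProduct.AlgebraTensorModule.cancelBaseChange R (fixed act H) F F P).injective
        (by rw [e, h0, map_zero])
    obtain ⟨⟨_, N, rfl⟩, hN⟩ := (IsLocalizedModule.eq_zero_iff (Submonoid.powers a) _).1 h2
    exact ⟨N, hN⟩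
  obtain ⟨N, hN⟩ := hN
  have hN1 : (LinearMap.mulLeft R (a ^ (N + 1))).rTensor P zH = 0 := by
    have e : ∀ (c : fixed act H) (w : fixed act H ⊗[R] P), (LinearMap.mulLeft R c).rTensor P w = c • w := fun c w => by
      induction w with
      | zero => simp
      | tmul x p => rfl
      | add u v hu hv => simp only [map_add, smul_add, hu, hv]
    rw [e, pow_succ', mul_smul, hN, smul_zero]
  let t : fixed act (⊤ : Subgroup G) := traceLin act H (a ^ (N + 1))
  have ht : t ∈ J := by
    have e : traceLin act H ∘ₗ LinearMap.mulLeft R (a ^ (N + 1)) ∘ₗ incl.toLinearMap = LinearMap.mulLeft R t := by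
      refine LinearMap.ext fun x => Subtype.ext ?_
      change trace act H ((a : A) ^ (N + 1) * x.1) = trace act H ((a : A) ^ (N + 1)) * x.1
      rw [mul_comm ((a : A) ^ (N + 1)), trace_mul act H x.2, mul_comm]
    change (LinearMap.mulLeft R t).rTensor P z = 0
    rw [← e, LinearMap.rTensor_comp, LinearMap.rTensor_comp, LinearMap.comp_apply, LinearMap.comp_apply, hN1,
      map_zero]
  refine trace_notMem act H Q a.2 haQ hga N ?_
  have := hJm ht
  rw [← hQm, Ideal.mem_comap] at this
  exact this

end Groth.Agent.SymProdLib
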