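import Groth.Prelude.Def_SymProd
import Groth.Agent.SymAF.Basic
import Groth.Agent.QuotScheme.Props
import Mathlib.RingTheory.PiTensorProduct

/-!
# Affine boxes in fibre powers

For affine opens `U ⊆ f⁻¹V` the box `U ×_V ⋯ ×_V U` is an affine open of the fibre power whose ring of
sections is the tensor power of `Γ(X, U)` over `Γ(S, V)`; symmetric powers of (AF) morphisms are
covered by the quotients of boxes.
-/

set_option autoImplicit false
set_option backward.isDefEq.respectTransparency false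
set_option backward.isDefEq.respectTransparency.types false
set_option linter.style.haveILetI false

universe u

open CategoryTheory CategoryTheory.Limits AlgebraicGeometry TopologicalSpace SymProd
open PiTensorProduct (tprod)
open scoped TensorProduct

namespace Groth.Agent.SymProdLib

variable {X S : Scheme.{u}} (f : X ⟶ S) (d : ℕ)

/-- `U ×_V ⋯ ×_V U` inside the fibre power. -/
noncomputable def box (U : X.Opens) (V : S.Opens) : (fibPow f d).Opens :=
  (WidePullback.base (fun _ : Fin d => f)) ⁻¹ᵁ V ⊓ ⨅ i : Fin d, (WidePullback.π (fun _ : Fin d => f) i) ⁻¹ᵁ U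

variable {f d} {U : X.Opens} {V : S.Opens}

theorem mem_box (z : fibPow f d) : z ∈ box f d U V ↔ (WidePullback.base (fun _ : Fin d => f)).base z ∈ V ∧
    ∀ i, (WidePullback.π (fun _ : Fin d => f) i).base z ∈ U := by
  simp only [box, ← SetLike.mem_coe, Opens.coe_inf, Set.mem_inter_iff]
  refine and_congr Iff.rfl ?_
  rw [SetLike.mem_coe, ← Finset.inf_univ_eq_iInf, ← SetLike.mem_coe, Opens.coe_finset_inf]
  simp

theorem box_le_base : box f d U V ≤ (WidePullback.base (fun _ : Fin d => f)) ⁻¹ᵁ V := inf_le_left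

theorem box_le_π (i : Fin d) : box f d U V ≤ (WidePullback.π (fun _ : Fin d => f) i) ⁻¹ᵁ U :=
  inf_le_right.trans (iInf_le _ i)

theorem box_stable (σ : Equiv.Perm (Fin d)) : (permHom f d σ) ⁻¹ᵁ box f d U V = box f d U V := by
  ext z
  simp only [Scheme.Hom.coe_preimage, Set.mem_preimage, SetLike.mem_coe, mem_box]
  rw [← Scheme.Hom.comp_apply, permHom_base]
  refine and_congr Iff.rfl ⟨fun h i => ?_, fun h i => ?_⟩
  · have := h (σ i)
    rwa [← Scheme.Hom.comp_apply, permHom_π, Equiv.symm_apply_apply] at this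
  · rw [← Scheme.Hom.comp_apply, permHom_π]
    exact h _

theorem box_le_perm (σ : Equiv.Perm (Fin d)) : box f d U V ≤ (permHom f d σ) ⁻¹ᵁ box f d U V :=
  (box_stable σ).ge

theorem coe_box (hd : 0 < d) (hUV : U ≤ f ⁻¹ᵁ V) : (box f d U V : Set (fibPow f d)) =
    ⋂ i : Fin d, (WidePullback.π (fun _ : Fin d => f) i).base ⁻¹' (U : Set X) := by
  ext z
  simp only [SetLike.mem_coe, mem_box, Set.mem_iInter, Set.mem_preimage]
  refine ⟨fun h => h.2, fun h => ⟨?_, h⟩⟩
  rw [← WidePullback.π_arrow (fun _ : Fin d => f) ⟨0, hd⟩, Scheme.Hom.comp_apply]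
  exact hUV (h ⟨0, hd⟩)

theorem isAffineOpen_box (hU : IsAffineOpen U) (hV : IsAffineOpen V) (hUV : U ≤ f ⁻¹ᵁ V) :
    IsAffineOpen (box f d U V) := by
  let g : (U : Scheme.{u}) ⟶ (V : Scheme.{u}) := f.resLE V U hUV
  haveI : IsAffine (U : Scheme.{u}) := hU
  haveI : IsAffine (V : Scheme.{u}) := hV
  haveI : IsAffine (SymProd.fibPow g d) := by
    haveI : ∀ o, IsAffine ((WidePullbackShape.wideCospan (V : Scheme.{u}) (fun _ : Fin d => (U : Scheme.{u})) fun _ => g).obj o) := by
      rintro (_ | _) <;> assumption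
    exact Scheme.isAffine_of_isLimit _ (limit.isLimit _)
  let toF : SymProd.fibPow g d ⟶ fibPow f d := WidePullback.lift (WidePullback.base (fun _ : Fin d => g) ≫ V.ι)
    (fun i => WidePullback.π (fun _ : Fin d => g) i ≫ U.ι) fun i => by
      rw [Category.assoc, ← WidePullback.π_arrow (fun _ : Fin d => g) i, Category.assoc, Scheme.Hom.resLE_comp_ι]
  have hrange : Set.range toF ⊆ Set.range (box f d U V).ι := by
    rw [Scheme.Opens.range_ι]
    rintro _ ⟨y, rfl⟩
    refine (mem_box _).2 ⟨?_, fun i => ?_⟩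
    · rw [← Scheme.Hom.comp_apply, WidePullback.lift_base]
      exact ((WidePullback.base (fun _ : Fin d => g)).base y).2
    · rw [← Scheme.Hom.comp_apply, WidePullback.lift_π]
      exact ((WidePullback.π (fun _ : Fin d => g) i).base y).2
  let φ : SymProd.fibPow g d ⟶ (box f d U V : Scheme.{u}) := IsOpenImmersion.lift (box f d U V).ι toF hrange
  have h1 : Set.range ((box f d U V).ι ≫ WidePullback.base (fun _ : Fin d => f)) ⊆ Set.range V.ι := by
    rw [Scheme.Opens.range_ι]; rintro _ ⟨y, rfl⟩; exact ((mem_box y.1).1 y.2).1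
  have h2 : ∀ i, Set.range ((box f d U V).ι ≫ WidePullback.π (fun _ : Fin d => f) i) ⊆ Set.range U.ι := fun i => by
    rw [Scheme.Opens.range_ι]; rintro _ ⟨y, rfl⟩; exact ((mem_box y.1).1 y.2).2 i
  let ψ : (box f d U V : Scheme.{u}) ⟶ SymProd.fibPow g d := WidePullback.lift (IsOpenImmersion.lift V.ι _ h1)
    (fun i => IsOpenImmersion.lift U.ι _ (h2 i)) fun i => by
      rw [← cancel_mono V.ι, Category.assoc, Scheme.Hom.resLE_comp_ι, IsOpenImmersion.lift_fac_assoc,
        IsOpenImmersion.lift_fac, Category.assoc, WidePullback.π_arrow]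
  have e1 : ψ ≫ toF = (box f d U V).ι := by
    apply WidePullback.hom_ext
    · intro i
      rw [Category.assoc, WidePullback.lift_π, WidePullback.lift_π_assoc, IsOpenImmersion.lift_fac]
    · rw [Category.assoc, WidePullback.lift_base, WidePullback.lift_base_assoc, IsOpenImmersion.lift_fac]
  have hφψ : φ ≫ ψ = 𝟙 _ := by
    apply WidePullback.hom_ext
    · intro i
      rw [← cancel_mono U.ι, Category.id_comp, Category.assoc, Category.assoc, WidePullback.lift_π_assoc,
        IsOpenImmersion.lift_fac, IsOpenImmersion.lift_fac_assoc, WidePullback.lift_π]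
    · rw [← cancel_mono V.ι, Category.id_comp, Category.assoc, Category.assoc, WidePullback.lift_base_assoc,
        IsOpenImmersion.lift_fac, IsOpenImmersion.lift_fac_assoc, WidePullback.lift_base]
  have hψφ : ψ ≫ φ = 𝟙 _ := by
    rw [← cancel_mono (box f d U V).ι, Category.assoc, IsOpenImmersion.lift_fac, e1, Category.id_comp]
  haveI : IsIso ψ := ⟨φ, hψφ, hφψ⟩
  exact IsAffine.of_isIso ψ

/-- The symmetric power of an (AF) morphism is covered by quotients of boxes. -/
theorem exists_chart {Y : Scheme.{u}} (hAF : IsAF f) {q : fibPow f d ⟶ Y} {g : Y ⟶ S}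
    (hq : IsSymProd f d q g) (y : Y) (hV : IsAffineOpen V) (hyV : g y ∈ V) :
    ∃ (U : X.Opens) (W' : Y.Opens), IsAffineOpen U ∧ U ≤ f ⁻¹ᵁ V ∧ y ∈ W' ∧ IsAffineOpen W' ∧
      W' ≤ g ⁻¹ᵁ V ∧ q ⁻¹ᵁ W' = box f d U V := by
  classical
  have hQ := hq.isQuot
  obtain ⟨z, rfl⟩ := Groth.Agent.QuotScheme.surjective hQ y
  let s := (WidePullback.base (fun _ : Fin d => f)).base z
  have hs : g (q z) = s := by rw [← Scheme.Hom.comp_apply, hq.over]
  let T : Finset X := Finset.univ.image fun i => (WidePullback.π (fun _ : Fin d => f) i).base z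
  have hTs : ∀ t ∈ T, f.base t = s := by
    intro t ht
    obtain ⟨i, -, rfl⟩ := Finset.mem_image.1 ht
    rw [← Scheme.Hom.comp_apply, WidePullback.π_arrow]
  obtain ⟨U₀, hU₀, hTU₀⟩ := hAF s T hTs
  obtain ⟨a, haV, haT⟩ := Groth.Agent.SymAF.exists_basicOpen_finset hU₀ T hTU₀ (f ⁻¹ᵁ V) fun t ht => by
    show f.base t ∈ V
    rw [hTs t ht, ← hs]; exact hyV
  let U := X.basicOpen a
  have hU : IsAffineOpen U := hU₀.basicOpen a
  have hz : z ∈ box f d U V := (mem_box z).2 ⟨by change s ∈ V; rw [← hs]; exact hyV,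
    fun i => haT _ (Finset.mem_image.2 ⟨i, Finset.mem_univ _, rfl⟩)⟩
  let W' : Y.Opens := ⟨(q.base '' ((box f d U V : Set (fibPow f d))ᶜ))ᶜ,
    (Groth.Agent.QuotScheme.isClosedMap hQ _ (box f d U V).isOpen.isClosed_compl).isOpen_compl⟩
  have hmem : ∀ w, q w ∈ W' ↔ w ∈ box f d U V := fun w => by
    refine ⟨fun h => by_contra fun hw => h ⟨w, hw, rfl⟩, ?_⟩
    rintro hw ⟨w', hw', he⟩
    obtain ⟨σ, hσ⟩ := (Groth.Agent.QuotScheme.orbit_iff hQ w' w).1 he
    refine hw' ?_
    rw [permActU_hom] at hσ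
    rw [← hσ] at hw
    exact (box_stable σ.down).le hw
  have hpre : q ⁻¹ᵁ W' = box f d U V := by ext w; exact hmem w
  refine ⟨U, W', hU, haV, (hmem z).2 hz, ?_, fun w hw => ?_, hpre⟩
  · haveI : IsAffine (q ⁻¹ᵁ W').toScheme := by rw [hpre]; exact isAffineOpen_box hU hV haV
    have hst : Groth.Agent.QuotScheme.IsStable (permActU f d) (q ⁻¹ᵁ W') := fun σ =>
      SGA1.preimage_le_of_inv _ q hQ.inv σ W'
    exact Groth.Agent.QuotScheme.isAffine_of_isQuot
      (Groth.Agent.QuotScheme.restrict hQ W' (Groth.Agent.QuotScheme.restrictAction hst)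
        (Groth.Agent.QuotScheme.restrictAction_ι hst))
  · obtain ⟨w, rfl⟩ := Groth.Agent.QuotScheme.surjective hQ w
    show g (q w) ∈ V
    rw [← Scheme.Hom.comp_apply, hq.over]
    exact ((mem_box w).1 ((hmem w).1 hw)).1

/-- Sections on a box are the tensor power of the sections on the factor, compatibly with the
permutations. -/
theorem exists_sections_equiv (hU : IsAffineOpen U) (hV : IsAffineOpen V) (hUV : U ≤ f ⁻¹ᵁ V) :
    letI := (f.appLE V U hUV).hom.toAlgebra
    letI := ((WidePullback.base (fun _ : Fin d => f)).appLE V (box f d U V) box_le_base).hom.toAlgebra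
    ∃ e : (⨂[Γ(S, V)] _ : Fin d, Γ(X, U)) ≃ₐ[Γ(S, V)] Γ(fibPow f d, box f d U V),
      ∀ (σ : Equiv.Perm (Fin d)) (x : ⨂[Γ(S, V)] _ : Fin d, Γ(X, U)),
        e (PiTensorProduct.reindex Γ(S, V) (fun _ : Fin d => Γ(X, U)) σ.symm x) =
          ((permHom f d σ).appLE (box f d U V) (box f d U V) (box_le_perm σ)).hom (e x) := by
  letI algU := (f.appLE V U hUV).hom.toAlgebra
  letI algB := ((WidePullback.base (fun _ : Fin d => f)).appLE V (box f d U V) box_le_base).hom.toAlgebra
  have hB := isAffineOpen_box (d := d) hU hV hUV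
  let pi : ∀ i, Γ(X, U) →ₐ[Γ(S, V)] Γ(fibPow f d, box f d U V) := fun i =>
    { ((WidePullback.π (fun _ : Fin d => f) i).appLE U (box f d U V) (box_le_π i)).hom with
      commutes' := fun r => by
        change ((WidePullback.π (fun _ : Fin d => f) i).appLE U _ _).hom ((f.appLE V U hUV).hom r) = _
        rw [← CommRingCat.comp_apply, Scheme.Hom.appLE_comp_appLE,
          Groth.Agent.QuotScheme.appLE_congr_hom (WidePullback.π_arrow (fun _ : Fin d => f) i) V _ _ box_le_base]
        rfl }
  let ψ : (⨂[Γ(S, V)] _ : Fin d, Γ(X, U)) →ₐ[Γ(S, V)] Γ(fibPow f d, box f d U V) :=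
    PiTensorProduct.liftAlgHom
      ((MultilinearMap.mkPiAlgebra Γ(S, V) (Fin d) Γ(fibPow f d, box f d U V)).compLinearMap
        fun i => (pi i).toLinearMap)
      (by simp) (fun x y => by simp [Finset.prod_mul_distrib])
  have hψ : ∀ i a, ψ (PiTensorProduct.singleAlgHom (R := Γ(S, V)) i a) = pi i a := fun i a => by
    simp only [ψ, PiTensorProduct.singleAlgHom_apply, PiTensorProduct.liftAlgHom_apply,
      PiTensorProduct.lift.tprod, MultilinearMap.compLinearMap_apply, MultilinearMap.mkPiAlgebra_apply]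
    refine (Finset.prod_eq_single i (fun j _ hj => ?_) fun h => (h (Finset.mem_univ i)).elim).trans ?_
    · simp [hj]
    · simp
  -- the inverse
  let T : CommRingCat.{u} := CommRingCat.of (⨂[Γ(S, V)] _ : Fin d, Γ(X, U))
  let single : ∀ i : Fin d, Γ(X, U) ⟶ T := fun i =>
    CommRingCat.ofHom (PiTensorProduct.singleAlgHom (R := Γ(S, V)) (A := fun _ : Fin d => Γ(X, U)) i).toRingHom
  let str : Γ(S, V) ⟶ T := CommRingCat.ofHom (algebraMap Γ(S, V) _)
  have hstr : ∀ i, f.appLE V U hUV ≫ single i = str := fun i => by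
    ext r
    exact (PiTensorProduct.singleAlgHom (R := Γ(S, V)) (A := fun _ : Fin d => Γ(X, U)) i).commutes r
  let g' : Spec T ⟶ fibPow f d := WidePullback.lift (Spec.map str ≫ hV.fromSpec)
    (fun i => Spec.map (single i) ≫ hU.fromSpec) fun i => by
      rw [Category.assoc, ← IsAffineOpen.SpecMap_appLE_fromSpec f hV hU hUV, ← Spec.map_comp_assoc, hstr i]
  have hrg : Set.range g' ⊆ Set.range (box f d U V).ι := by
    rw [Scheme.Opens.range_ι]
    rintro _ ⟨t, rfl⟩
    refine (mem_box _).2 ⟨?_, fun i => ?_⟩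
    · rw [← Scheme.Hom.comp_apply, WidePullback.lift_base, Scheme.Hom.comp_apply]
      exact hV.range_fromSpec.le ⟨_, rfl⟩
    · rw [← Scheme.Hom.comp_apply, WidePullback.lift_π, Scheme.Hom.comp_apply]
      exact hU.range_fromSpec.le ⟨_, rfl⟩
  let φ : Γ(fibPow f d, box f d U V) ⟶ T :=
    Spec.preimage (IsOpenImmersion.lift (box f d U V).ι g' hrg ≫ hB.isoSpec.hom)
  have hφ : Spec.map φ ≫ hB.fromSpec = g' := by
    rw [Spec.map_preimage, Category.assoc, hB.isoSpec_hom_fromSpec, IsOpenImmersion.lift_fac]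
  have hπ : ∀ i, (WidePullback.π (fun _ : Fin d => f) i).appLE U _ (box_le_π i) ≫ φ = single i := fun i => by
    apply Spec.map_injective
    rw [← cancel_mono hU.fromSpec, Spec.map_comp, Category.assoc,
      IsAffineOpen.SpecMap_appLE_fromSpec _ hU hB, reassoc_of% hφ, WidePullback.lift_π]
  have hbase : (WidePullback.base (fun _ : Fin d => f)).appLE V _ box_le_base ≫ φ = str := by
    apply Spec.map_injective
    rw [← cancel_mono hV.fromSpec, Spec.map_comp, Category.assoc,
      IsAffineOpen.SpecMap_appLE_fromSpec _ hV hB, reassoc_of% hφ, WidePullback.lift_base]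
  let φ' : Γ(fibPow f d, box f d U V) →ₐ[Γ(S, V)] ⨂[Γ(S, V)] _ : Fin d, Γ(X, U) :=
    { φ.hom with commutes' := fun r => congr($(hbase) r) }
  have h1 : φ'.comp ψ = AlgHom.id _ _ := PiTensorProduct.algHom_ext fun i => AlgHom.ext fun a => by
    change φ.hom (ψ (PiTensorProduct.singleAlgHom (R := Γ(S, V)) i a)) = _
    rw [hψ]
    exact congr($(hπ i) a)
  let ψC : T ⟶ Γ(fibPow f d, box f d U V) := CommRingCat.ofHom ψ.toRingHom
  have hψC : ∀ i, single i ≫ ψC = (WidePullback.π (fun _ : Fin d => f) i).appLE U _ (box_le_π i) := fun i => by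
    ext a; exact hψ i a
  have hψstr : str ≫ ψC = (WidePullback.base (fun _ : Fin d => f)).appLE V _ box_le_base := by
    ext r; exact ψ.commutes r
  have h2C : φ ≫ ψC = 𝟙 _ := by
    apply Spec.map_injective
    rw [← cancel_mono hB.fromSpec, Spec.map_comp, Category.assoc, hφ, Spec.map_id, Category.id_comp]
    apply WidePullback.hom_ext
    · intro i
      rw [Category.assoc, WidePullback.lift_π, ← Spec.map_comp_assoc, hψC i,
        IsAffineOpen.SpecMap_appLE_fromSpec _ hU hB]
    · rw [Category.assoc, WidePullback.lift_base, ← Spec.map_comp_assoc, hψstr,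
        IsAffineOpen.SpecMap_appLE_fromSpec _ hV hB]
  have h2 : ψ.comp φ' = AlgHom.id _ _ := AlgHom.ext fun x => congr($(h2C) x)
  refine ⟨AlgEquiv.ofAlgHom ψ φ' h2 h1, fun σ x => ?_⟩
  change ψ _ = ((permHom f d σ).appLE _ _ _).hom (ψ x)
  induction x using PiTensorProduct.induction_on with
  | smul_tprod r v =>
    rw [LinearEquiv.map_smul, PiTensorProduct.reindex_tprod, map_smul, map_smul, Algebra.smul_def,
      Algebra.smul_def, map_mul]
    have hr : ((permHom f d σ).appLE (box f d U V) (box f d U V) (box_le_perm σ)).hom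
        (algebraMap Γ(S, V) _ r) = algebraMap Γ(S, V) _ r := by
      change ((permHom f d σ).appLE _ _ _).hom (((WidePullback.base (fun _ : Fin d => f)).appLE V _ _).hom r) = _
      rw [← CommRingCat.comp_apply, Scheme.Hom.appLE_comp_appLE,
        Groth.Agent.QuotScheme.appLE_congr_hom (permHom_base f d σ) V _ _ box_le_base]
      rfl
    rw [hr]
    congr 1
    simp only [ψ, PiTensorProduct.liftAlgHom_apply, PiTensorProduct.lift.tprod,
      MultilinearMap.compLinearMap_apply, MultilinearMap.mkPiAlgebra_apply, map_prod]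
    refine Fintype.prod_equiv σ _ _ fun i => ?_
    change ((WidePullback.π (fun _ : Fin d => f) i).appLE U _ _).hom (v (σ.symm.symm i)) =
      ((permHom f d σ).appLE _ _ _).hom (((WidePullback.π (fun _ : Fin d => f) (σ i)).appLE U _ _).hom (v (σ i)))
    rw [← CommRingCat.comp_apply, Scheme.Hom.appLE_comp_appLE,
      Groth.Agent.QuotScheme.appLE_congr_hom (permHom_π f d σ (σ i)) U _ _
        ((box_le_π i).trans (by rw [Equiv.symm_apply_apply]))]
    simp only [Equiv.symm_symm, Equiv.symm_apply_apply]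
  | add a b ha hb => simp only [map_add, ha, hb]

end Groth.Agent.SymProdLib
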