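import Groth.Agent.SymProdLib.Invariants
import Groth.Agent.SymProdLib.Box
import Groth.Agent.QuotScheme.BaseChange
import Mathlib.AlgebraicGeometry.Morphisms.Flat
import Mathlib.CategoryTheory.MorphismProperty.Limits

/-!
# Symmetric powers of flat (AF) morphisms are flat and commute with base change
-/

set_option autoImplicit false
set_option backward.isDefEq.respectTransparency false
set_option backward.isDefEq.respectTransparency.types false
set_option linter.style.haveILetI false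

universe u

open CategoryTheory CategoryTheory.Limits AlgebraicGeometry TopologicalSpace SymProd
open scoped TensorProduct

namespace Groth.Agent.SymProdLib

section Algebra

variable {R A B M : Type u} [CommRing R] [CommRing A] [CommRing B] [Algebra R A] [Algebra R B]
  [AddCommGroup M] [Module R M] {n : ℕ}

/-- An algebra identified with the invariant sections is identified with the symmetric tensors. -/
theorem exists_equiv_Inv (e : TP R n M ≃ₗ[R] A) (ι : B →ₐ[R] A) (hι : Function.Injective ι)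
    (act : Equiv.Perm (Fin n) → A → A)
    (he : ∀ σ x, e (perm R n M σ.symm x) = act σ (e x))
    (hfix : ∀ s, s ∈ Set.range ι ↔ ∀ σ, act σ s = s) :
    ∃ eI : Inv R n M ≃ₗ[R] B, ∀ x, ι (eI x) = e x.1 := by
  have hmem : ∀ x, x ∈ Inv R n M ↔ e x ∈ Set.range ι := fun x => by
    rw [hfix, mem_Inv]
    refine ⟨fun h σ => by rw [← he, h], fun h σ => e.injective ?_⟩
    have := he σ.symm x
    rw [Equiv.symm_symm] at this
    rw [this, h]
  let d : B →ₗ[R] Inv R n M :=
    (e.symm.toLinearMap ∘ₗ ι.toLinearMap).codRestrict _ fun b => (hmem _).2 ⟨b, by simp⟩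
  have hd : ∀ b, e (d b).1 = ι b := fun b => e.apply_symm_apply (ι b)
  have hbij : Function.Bijective d := by
    refine ⟨fun b b' h => hι ?_, fun x => ?_⟩
    · rw [← hd, ← hd, h]
    · obtain ⟨b, hb⟩ := (hmem x.1).1 x.2
      exact ⟨b, Subtype.ext (e.injective ((hd b).trans hb))⟩
  refine ⟨(LinearEquiv.ofBijective d hbij).symm, fun x => ?_⟩
  rw [← hd]
  exact congrArg (fun y : Inv R n M => e y.1) ((LinearEquiv.ofBijective d hbij).apply_symm_apply x)

/-- Invariants of a tensor power of a flat module commute with base change, in terms of rings. -/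
theorem invariants_bc [Module.Flat R M] {R' A' B' : Type u} [CommRing R'] [CommRing A'] [CommRing B']
    [Algebra R R'] (e : TP R n M ≃ₗ[R] A) (ι : B →ₐ[R] A) (hι : Function.Injective ι)
    (act : Equiv.Perm (Fin n) → A → A)
    (he : ∀ σ x, e (perm R n M σ.symm x) = act σ (e x))
    (hfix : ∀ s, s ∈ Set.range ι ↔ ∀ σ, act σ s = s)
    (eA : R' ⊗[R] A ≃+* A') (eB : R' ⊗[R] B ≃+* B') (ι' : B' →+* A')
    (hsq : ∀ r b, ι' (eB (r ⊗ₜ b)) = eA (r ⊗ₜ ι b))
    (act' : Equiv.Perm (Fin n) → A' →+* A') (hact : ∀ σ r a, act' σ (eA (r ⊗ₜ a)) = eA (r ⊗ₜ act σ a)) :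
    Function.Injective ι' ∧ ∀ s, (∀ σ, act' σ s = s) → s ∈ Set.range ι' := by
  obtain ⟨eI, heI⟩ := exists_equiv_Inv e ι hι act he hfix
  let ΦA : TP R n M ⊗[R] R' ≃+ A' :=
    ((TensorProduct.comm R _ _) ≪≫ₗ TensorProduct.congr (LinearEquiv.refl R R') e).toAddEquiv.trans eA.toAddEquiv
  let ΦB : Inv R n M ⊗[R] R' ≃+ B' :=
    ((TensorProduct.comm R _ _) ≪≫ₗ TensorProduct.congr (LinearEquiv.refl R R') eI).toAddEquiv.trans eB.toAddEquiv
  have hΦ : ∀ z, ι' (ΦB z) = ΦA (incl R n M R' z) := fun z => by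
    induction z with
    | zero => simp only [map_zero]
    | tmul x r =>
      change ι' (eB (r ⊗ₜ eI x)) = eA (r ⊗ₜ e x.1)
      rw [hsq, heI]
    | add a b ha hb => simp only [map_add, ha, hb]
  have hperm : ∀ σ z, act' σ (ΦA z) = ΦA ((perm R n M σ.symm).rTensor R' z) := fun σ z => by
    induction z with
    | zero => simp only [map_zero]
    | tmul x r =>
      change act' σ (eA (r ⊗ₜ e x)) = eA (r ⊗ₜ e (perm R n M σ.symm x))
      rw [hact, he]
    | add a b ha hb => simp only [map_add, ha, hb]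
  refine ⟨fun b₁ b₂ hb => ?_, fun s hs => ?_⟩
  · obtain ⟨u₁, rfl⟩ := ΦB.surjective b₁
    obtain ⟨u₂, rfl⟩ := ΦB.surjective b₂
    rw [hΦ, hΦ] at hb
    rw [incl_injective R' (ΦA.injective hb)]
  · obtain ⟨z, rfl⟩ := ΦA.surjective s
    obtain ⟨v, hv⟩ := exists_of_isInv R' z fun σ => by
      have := ΦA.injective ((hperm σ.symm z).symm.trans (hs _))
      rwa [Equiv.symm_symm] at this
    exact ⟨ΦB v, by rw [hΦ, hv]⟩

end Algebra

variable {X S Y : Scheme.{u}} {f : X ⟶ S} {n : ℕ}

/-- The invariant sections over the quotient of a box. -/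
theorem chart_fix {q : fibPow f n ⟶ Y} {g : Y ⟶ S} (hq : IsSymProd f n q g) {W' : Y.Opens}
    {U : X.Opens} {V : S.Opens} (hpre : q ⁻¹ᵁ W' = box f n U V) :
    Function.Injective (q.appLE W' (box f n U V) hpre.ge).hom ∧
    ∀ s, s ∈ Set.range (q.appLE W' (box f n U V) hpre.ge).hom ↔
      ∀ σ : Equiv.Perm (Fin n),
        ((permHom f n σ).appLE (box f n U V) (box f n U V) (box_le_perm σ)).hom s = s := by
  refine ⟨?_, fun s => ?_⟩
  · suffices ∀ (O : (fibPow f n).Opens) (h : O = q ⁻¹ᵁ W'), Function.Injective (q.appLE W' O h.le).hom from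
      this _ hpre.symm
    rintro O rfl
    rw [← Scheme.Hom.app_eq_appLE]
    exact hq.isQuot.injective W'
  · rw [Groth.Agent.QuotScheme.range_iff_of_eq hq.isQuot W' _ hpre.symm (fun σ => box_le_perm σ.down) s]
    exact ⟨fun h σ => h ⟨σ⟩, fun h σ => h σ.down⟩

/-- Symmetric powers of flat (AF) morphisms are flat. -/
theorem flat_of_isSymProd [Flat f] (hAF : IsAF f) {q : fibPow f n ⟶ Y} {g : Y ⟶ S}
    (hq : IsSymProd f n q g) : Flat g := by
  refine (HasRingHomProperty.iff_exists_appLE (P := @Flat)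
    (RingHom.Flat.stableUnderComposition.stableUnderCompositionWithLocalizationAway
      RingHom.Flat.holdsForLocalizationAway).1).2 fun y => ?_
  obtain ⟨V, hV, hyV, -⟩ := exists_isAffineOpen_mem_and_subset (X := S) (x := g y) (U := ⊤) trivial
  obtain ⟨U, W', hU, hUV, hyW, hW, hWV, hpre⟩ := exists_chart hAF hq y hV hyV
  refine ⟨⟨V, hV⟩, ⟨W', hW⟩, hyW, hWV, ?_⟩
  letI := (f.appLE V U hUV).hom.toAlgebra
  letI := ((WidePullback.base (fun _ : Fin n => f)).appLE V (box f n U V) box_le_base).hom.toAlgebra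
  letI := (g.appLE V W' hWV).hom.toAlgebra
  haveI : Module.Flat Γ(S, V) Γ(X, U) :=
    RingHom.flat_algebraMap_iff.1 (HasRingHomProperty.appLE @Flat f inferInstance ⟨V, hV⟩ ⟨U, hU⟩ hUV)
  obtain ⟨e, he⟩ := exists_sections_equiv (d := n) hU hV hUV
  obtain ⟨hinj, hfix⟩ := chart_fix hq hpre
  let ι : Γ(Y, W') →ₐ[Γ(S, V)] Γ(fibPow f n, box f n U V) :=
    { (q.appLE W' (box f n U V) hpre.ge).hom with
      commutes' := fun r => by
        change (q.appLE W' _ _).hom ((g.appLE V W' hWV).hom r) = _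
        rw [← CommRingCat.comp_apply, Scheme.Hom.appLE_comp_appLE,
          Groth.Agent.QuotScheme.appLE_congr_hom hq.over V _ _ box_le_base]
        rfl }
  obtain ⟨eI, -⟩ := exists_equiv_Inv e.toLinearEquiv ι hinj
    (fun σ => ((permHom f n σ).appLE (box f n U V) (box f n U V) (box_le_perm σ)).hom)
    (fun σ x => he σ x) hfix
  haveI := flat_Inv (R := Γ(S, V)) (n := n) (M := Γ(X, U))
  exact RingHom.flat_algebraMap_iff.2 (Module.Flat.of_linearEquiv eI.symm)

/-- Symmetric powers of flat (AF) morphisms commute with base change. -/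
theorem isSymProd_baseChange {S' : Scheme.{u}} [Flat f] (hAF : IsAF f) {q : fibPow f n ⟶ Y} {g : Y ⟶ S}
    (hq : IsSymProd f n q g) (b : S' ⟶ S)
    (c : fibPow (pullback.snd f b) n ⟶ fibPow f n)
    (hcπ : ∀ i : Fin n, c ≫ WidePullback.π (fun _ => f) i =
      WidePullback.π (fun _ => pullback.snd f b) i ≫ pullback.fst f b)
    (hcb : c ≫ WidePullback.base (fun _ => f) = WidePullback.base (fun _ => pullback.snd f b) ≫ b)
    (q' : fibPow (pullback.snd f b) n ⟶ pullback g b)
    (hq'₁ : q' ≫ pullback.fst g b = c ≫ q)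
    (hq'₂ : q' ≫ pullback.snd g b = WidePullback.base (fun _ => pullback.snd f b)) :
    IsSymProd (pullback.snd f b) n q' (pullback.snd g b) := by
  -- the fibre power of the base change is the base change of the fibre power
  have hP : IsPullback c (WidePullback.base (fun _ => pullback.snd f b)) (WidePullback.base (fun _ => f)) b := by
    refine ⟨⟨hcb⟩, ⟨PullbackCone.IsLimit.mk hcb
      (fun s => WidePullback.lift s.snd
        (fun i => pullback.lift (s.fst ≫ WidePullback.π (fun _ => f) i) s.snd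
          (by rw [Category.assoc, WidePullback.π_arrow, s.condition])) fun i => by rw [pullback.lift_snd])
      (fun s => ?_) (fun s => WidePullback.lift_base _ _ _ _) (fun s m hm₁ hm₂ => ?_)⟩⟩
    · apply WidePullback.hom_ext
      · intro i
        rw [Category.assoc, hcπ, WidePullback.lift_π_assoc, pullback.lift_fst]
      · rw [Category.assoc, hcb, WidePullback.lift_base_assoc, s.condition]
    · apply WidePullback.hom_ext
      · intro i
        rw [WidePullback.lift_π]
        apply pullback.hom_ext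
        · rw [pullback.lift_fst, Category.assoc, ← hcπ, reassoc_of% hm₁]
        · rw [pullback.lift_snd, Category.assoc, WidePullback.π_arrow, hm₂]
      · rw [WidePullback.lift_base, hm₂]
  have hpb : IsPullback c q' q (pullback.fst g b) := by
    refine IsPullback.of_bot ?_ hq'₁.symm (IsPullback.of_hasPullback g b)
    rw [hq'₂, hq.over]
    exact hP
  have hQ := hq.isQuot
  have hinv : ∀ σ : ULift.{u} (Equiv.Perm (Fin n)), (permActU (pullback.snd f b) n σ).hom ≫ q' = q' := fun σ => by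
    apply pullback.hom_ext
    · rw [Category.assoc, hq'₁, ← Category.assoc, permActU_hom]
      have : permHom (pullback.snd f b) n σ.down ≫ c = c ≫ permHom f n σ.down := by
        apply WidePullback.hom_ext
        · intro i
          rw [Category.assoc, Category.assoc, hcπ, permHom_π, hcπ, permHom_π_assoc]
        · rw [Category.assoc, Category.assoc, hcb, permHom_base, hcb, permHom_base_assoc]
      rw [this, Category.assoc]
      exact congrArg (c ≫ ·) (hQ.inv σ)
    · rw [Category.assoc, hq'₂, permActU_hom, permHom_base]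
  have hσc : ∀ σ : Equiv.Perm (Fin n), permHom (pullback.snd f b) n σ ≫ c = c ≫ permHom f n σ := fun σ => by
    apply WidePullback.hom_ext
    · intro i
      rw [Category.assoc, Category.assoc, hcπ, permHom_π, hcπ, permHom_π_assoc]
    · rw [Category.assoc, Category.assoc, hcb, permHom_base, hcb, permHom_base_assoc]
  refine ⟨Groth.Agent.QuotScheme.of_affine_cover (MorphismProperty.of_isPullback hpb hQ.affine) hinv fun y' => ?_, hq'₂⟩
  obtain ⟨V, hV, hyV, -⟩ := exists_isAffineOpen_mem_and_subset (X := S)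
    (x := g (pullback.fst g b y')) (U := ⊤) trivial
  obtain ⟨U, W', hU, hUV, hyW, hW, hWV, hpre⟩ := exists_chart hAF hq _ hV hyV
  obtain ⟨V', hV', hyV', hV'b⟩ := exists_isAffineOpen_mem_and_subset (X := S')
    (x := pullback.snd g b y') (U := b ⁻¹ᵁ V) (by
      show b (pullback.snd g b y') ∈ V
      rw [← Scheme.Hom.comp_apply, ← pullback.condition]; exact hyV)
  let W'' : (pullback g b).Opens := pullback.fst g b ⁻¹ᵁ W' ⊓ pullback.snd g b ⁻¹ᵁ V'
  have hW'' : IsAffineOpen W'' := by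
    haveI : IsAffine (W' : Scheme.{u}) := hW
    haveI : IsAffine (V : Scheme.{u}) := hV
    haveI : IsAffine (V' : Scheme.{u}) := hV'
    exact .of_isIso (Scheme.Hom.isPullback_resLE (IsPullback.of_hasPullback g b) hV'b hWV rfl).isoPullback.hom
  have hpre'' : q' ⁻¹ᵁ W'' = c ⁻¹ᵁ box f n U V ⊓ WidePullback.base (fun _ => pullback.snd f b) ⁻¹ᵁ V' := by
    rw [← hpre, ← hq'₂]
    simp only [W'', Scheme.Hom.preimage_inf, ← Scheme.Hom.comp_preimage, hq'₁]
  have hcW : q' ⁻¹ᵁ W'' ≤ c ⁻¹ᵁ box f n U V := hpre''.le.trans inf_le_left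
  have hbW : q' ⁻¹ᵁ W'' ≤ WidePullback.base (fun _ => pullback.snd f b) ⁻¹ᵁ V' := hpre''.le.trans inf_le_right
  have hpoA := (isIso_pushoutSection_iff hP hV'b box_le_base hpre'').mp
    (isIso_pushoutSection_of_isAffineOpen hP hV'b box_le_base hpre'' hV hV' (isAffineOpen_box hU hV hUV))
  have hpoB := (isIso_pushoutSection_iff (IsPullback.of_hasPullback g b) hV'b hWV rfl).mp
    (isIso_pushoutSection_of_isAffineOpen (IsPullback.of_hasPullback g b) hV'b hWV rfl hV hV' hW)
  letI := (f.appLE V U hUV).hom.toAlgebra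
  letI := ((WidePullback.base (fun _ : Fin n => f)).appLE V (box f n U V) box_le_base).hom.toAlgebra
  letI := (g.appLE V W' hWV).hom.toAlgebra
  letI := (b.appLE V V' hV'b).hom.toAlgebra
  haveI : Module.Flat Γ(S, V) Γ(X, U) :=
    RingHom.flat_algebraMap_iff.1 (HasRingHomProperty.appLE @Flat f inferInstance ⟨V, hV⟩ ⟨U, hU⟩ hUV)
  obtain ⟨e, he⟩ := exists_sections_equiv (d := n) hU hV hUV
  obtain ⟨hinj, hfix⟩ := chart_fix hq hpre
  let ι : Γ(Y, W') →ₐ[Γ(S, V)] Γ(fibPow f n, box f n U V) :=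
    { (q.appLE W' (box f n U V) hpre.ge).hom with
      commutes' := fun r => by
        change (q.appLE W' _ _).hom ((g.appLE V W' hWV).hom r) = _
        rw [← CommRingCat.comp_apply, Scheme.Hom.appLE_comp_appLE,
          Groth.Agent.QuotScheme.appLE_congr_hom hq.over V _ _ box_le_base]
        rfl }
  let A₀ := CommRingCat.isPushout_tensorProduct Γ(S, V) Γ(S', V') Γ(fibPow f n, box f n U V)
  let B₀ := CommRingCat.isPushout_tensorProduct Γ(S, V) Γ(S', V') Γ(Y, W')
  let eA := (A₀.isoIsPushout _ _ hpoA.flip).commRingCatIsoToRingEquiv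
  let eB := (B₀.isoIsPushout _ _ hpoB.flip).commRingCatIsoToRingEquiv
  have eAl : ∀ r, eA (r ⊗ₜ 1) =
      ((WidePullback.base (fun _ => pullback.snd f b)).appLE V' (q' ⁻¹ᵁ W'') hbW).hom r :=
    fun r => congr($(A₀.inl_isoIsPushout_hom _ _ hpoA.flip) r)
  have eAr : ∀ x, eA (1 ⊗ₜ x) = (c.appLE (box f n U V) (q' ⁻¹ᵁ W'') hcW).hom x :=
    fun x => congr($(A₀.inr_isoIsPushout_hom _ _ hpoA.flip) x)
  have eBl : ∀ r, eB (r ⊗ₜ 1) = ((pullback.snd g b).appLE V' W'' inf_le_right).hom r :=
    fun r => congr($(B₀.inl_isoIsPushout_hom _ _ hpoB.flip) r)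
  have eBr : ∀ x, eB (1 ⊗ₜ x) = ((pullback.fst g b).appLE W' W'' inf_le_left).hom x :=
    fun x => congr($(B₀.inr_isoIsPushout_hom _ _ hpoB.flip) x)
  have eAt : ∀ r x, eA (r ⊗ₜ x) = eA (r ⊗ₜ 1) * eA (1 ⊗ₜ x) := fun r x => by
    rw [← map_mul, Algebra.TensorProduct.tmul_mul_tmul, mul_one, one_mul]
  have eBt : ∀ r x, eB (r ⊗ₜ x) = eB (r ⊗ₜ 1) * eB (1 ⊗ₜ x) := fun r x => by
    rw [← map_mul, Algebra.TensorProduct.tmul_mul_tmul, mul_one, one_mul]
  have hst : ∀ σ : Equiv.Perm (Fin n), q' ⁻¹ᵁ W'' ≤ (permHom (pullback.snd f b) n σ) ⁻¹ᵁ (q' ⁻¹ᵁ W'') := fun σ =>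
    SGA1.preimage_le_of_inv _ q' hinv ⟨σ⟩ W''
  obtain ⟨hi, hr⟩ := invariants_bc e.toLinearEquiv ι hinj
    (fun σ => ((permHom f n σ).appLE (box f n U V) (box f n U V) (box_le_perm σ)).hom)
    (fun σ x => he σ x) hfix eA eB (q'.app W'').hom
    (fun r x => by
      rw [eBt, eAt, map_mul, eBl, eBr, eAl, eAr]
      congr 1
      · rw [Scheme.Hom.app_eq_appLE, ← CommRingCat.comp_apply, Scheme.Hom.appLE_comp_appLE,
          Groth.Agent.QuotScheme.appLE_congr_hom hq'₂ V' _ _ hbW]
      · change _ = (c.appLE _ _ hcW).hom ((q.appLE W' _ _).hom x)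
        rw [Scheme.Hom.app_eq_appLE, ← CommRingCat.comp_apply, Scheme.Hom.appLE_comp_appLE,
          ← CommRingCat.comp_apply, Scheme.Hom.appLE_comp_appLE]
        exact congr($(Groth.Agent.QuotScheme.appLE_congr_hom hq'₁ W' (q' ⁻¹ᵁ W'') _ _) x))
    (fun σ => ((permHom (pullback.snd f b) n σ).appLE (q' ⁻¹ᵁ W'') (q' ⁻¹ᵁ W'') (hst σ)).hom)
    (fun σ r x => by
      refine (congrArg _ (eAt r x)).trans (Eq.trans ?_ (eAt r _).symm)
      rw [map_mul, eAl, eAr, eAr]
      congr 1
      · rw [← CommRingCat.comp_apply, Scheme.Hom.appLE_comp_appLE,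
          Groth.Agent.QuotScheme.appLE_congr_hom (permHom_base (pullback.snd f b) n σ) V' _ _ hbW]
      · rw [← CommRingCat.comp_apply, Scheme.Hom.appLE_comp_appLE,
          ← CommRingCat.comp_apply, Scheme.Hom.appLE_comp_appLE]
        exact congr($(Groth.Agent.QuotScheme.appLE_congr_hom (hσc σ) (box f n U V) (q' ⁻¹ᵁ W'') _ _) x))
  exact ⟨W'', hW'', ⟨hyW, hyV'⟩, hi, fun s hs => hr s fun σ => hs ⟨σ⟩ _⟩

end Groth.Agent.SymProdLib
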