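import Groth.Agent.SymProdLib.Invariants
import Groth.Agent.SymProdLib.Transfer
import Mathlib.RingTheory.PiTensorProduct

/-!
# Blocks of a tensor power

`C` is the factor of a tensor power of an algebra `M` cut out by the idempotent belonging to a colouring
`κ` of the factors. The invariants of the stabilizer of the colouring in `C` lift to symmetric tensors.
-/

set_option autoImplicit false
set_option backward.isDefEq.respectTransparency false
set_option backward.isDefEq.respectTransparency.types false
set_option linter.unusedSectionVars false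
set_option linter.style.haveILetI false

universe u

open scoped TensorProduct
open PiTensorProduct (tprod)

namespace Groth.Agent.SymProdLib

section Span

variable {R : Type u} [CommRing R] {d : ℕ} {M : Type u} [AddCommGroup M] [Module R M] {ι : Type u}

/-- The sum of the pure tensors over the orbit of a multi-index. -/
noncomputable def osum (R : Type u) [CommRing R] {M : Type u} [AddCommGroup M] [Module R M] (v : ι → M)
    (p : Fin d → ι) : TP R d M :=
  ∑ q ∈ orb p, tprod R fun i => v (q i)

theorem mapT_orbitSum {L : Type u} [AddCommGroup L] [Module R L] (b : Module.Basis ι R L) (π : L →ₗ[R] M)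
    (p : Fin d → ι) : mapT π (∑ q ∈ orb p, Bn b q) = osum R (fun j => π (b j)) p := by
  rw [osum, map_sum]
  exact Finset.sum_congr rfl fun q _ => by simp [Bn, Basis.piTensorProduct_apply]

/-- Orbit sums are symmetric. -/
theorem osum_mem (v : ι → M) (p : Fin d → ι) : osum R v p ∈ Inv R d M := by
  classical
  have := mapT_mem (n := d) (Finsupp.linearCombination R v) (orbitSum_mem Finsupp.basisSingleOne p)
  rw [mapT_orbitSum] at this
  simpa using this

/-- Symmetric tensors of a flat module are spanned by orbit sums of a spanning family. -/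
theorem mem_span_osum [Module.Flat R M] (v : ι → M) (hv : Submodule.span R (Set.range v) = ⊤)
    {x : TP R d M} (hx : x ∈ Inv R d M) : x ∈ Submodule.span R (Set.range (osum (d := d) R v)) := by
  classical
  let π : (ι →₀ R) →ₗ[R] M := Finsupp.linearCombination R v
  let b : Module.Basis ι R (ι →₀ R) := Finsupp.basisSingleOne
  have hπ : Function.Surjective π := by
    rw [← LinearMap.range_eq_top, Finsupp.range_linearCombination, hv]
  obtain ⟨y, hy⟩ := mapI_surjective (n := d) b π hπ ⟨x, hx⟩
  replace hy : mapT π (y : TP R d (ι →₀ R)) = x := congrArg Subtype.val hy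
  rw [← hy, ← retr_apply_of_mem b y]
  generalize (y : TP R d (ι →₀ R)) = z
  have h : (z : TP R d (ι →₀ R)) ∈ Submodule.span R (Set.range (Bn b)) := by
    rw [(Bn b).span_eq]; trivial
  induction h using Submodule.span_induction with
  | mem z hz =>
    obtain ⟨p, rfl⟩ := hz
    rw [retr, (Bn b).constr_basis]
    split_ifs
    · rw [mapT_orbitSum]
      exact Submodule.subset_span ⟨p, by simp [π, b]⟩
    · simp
  | zero => simp
  | add z w _ _ hz hw =>
    rw [map_add, Submodule.coe_add, map_add]
    exact Submodule.add_mem _ hz hw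
  | smul a z _ hz =>
    rw [map_smul, Submodule.coe_smul, map_smul]
    exact Submodule.smul_mem _ _ hz

end Span

/-- The stabilizer of a colouring. -/
def stab {d : ℕ} {J : Type*} (κ : Fin d → J) : Subgroup (Equiv.Perm (Fin d)) where
  carrier := {σ | ∀ i, κ (σ i) = κ i}
  one_mem' i := rfl
  mul_mem' {σ τ} hσ hτ i := (hσ (τ i)).trans (hτ i)
  inv_mem' {σ} hσ i := by
    conv_rhs => rw [← Equiv.apply_symm_apply σ i, hσ]
    rfl

theorem mem_stab {d : ℕ} {J : Type*} {κ : Fin d → J} {σ : Equiv.Perm (Fin d)} :
    σ ∈ stab κ ↔ ∀ i, κ (σ i) = κ i := Iff.rfl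

variable (R : Type u) [CommRing R] (d : ℕ) (M : Type u) [CommRing M] [Algebra R M]

/-- The permutations as algebra endomorphisms of the tensor power. -/
noncomputable def permA : Equiv.Perm (Fin d) →* (TP R d M →ₐ[R] TP R d M) where
  toFun σ := AlgHom.ofLinearMap (perm R d M σ)
    (by rw [PiTensorProduct.one_def, perm_tprod]; rfl)
    ((LinearMap.map_mul_iff _).2 (by ext x y; simp [perm_tprod]; rfl))
  map_one' := PiTensorProduct.algHom_ext fun i => AlgHom.ext fun a => by
    change perm R d M 1 (tprod R _) = tprod R _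
    rw [perm_tprod]; rfl
  map_mul' σ τ := AlgHom.toLinearMap_injective <| PiTensorProduct.ext <| MultilinearMap.ext fun x => by
    change perm R d M (σ * τ) (tprod R x) = perm R d M σ (perm R d M τ (tprod R x))
    rw [perm_tprod, perm_tprod, perm_tprod]; rfl

theorem permA_apply (σ : Equiv.Perm (Fin d)) (x : TP R d M) : permA R d M σ x = perm R d M σ x := rfl

variable {R d M} {J : Type u} (κ : Fin d → J) (e : J → M)

theorem perm_E_of_mem {σ : Equiv.Perm (Fin d)} (hσ : σ ∈ stab κ) :
    perm R d M σ (tprod R fun i => e (κ i)) = tprod R fun i => e (κ i) := by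
  rw [perm_tprod]
  congr 1
  funext i
  exact congrArg e ((stab κ).inv_mem hσ i)

theorem E_mul_perm_of_notMem (he : ∀ i j, i ≠ j → e i * e j = 0) {σ : Equiv.Perm (Fin d)}
    (hσ : σ ∉ stab κ) :
    (tprod R fun i => e (κ i)) * perm R d M σ (tprod R fun i => e (κ i)) = 0 := by
  rw [mem_stab, not_forall] at hσ
  obtain ⟨i, hi⟩ := hσ
  rw [perm_tprod, PiTensorProduct.mul_def, PiTensorProduct.mul_tprod_tprod]
  refine MultilinearMap.map_coord_zero _ (σ i) ?_
  change e (κ (σ i)) * e (κ (σ.symm (σ i))) = 0
  rw [Equiv.symm_apply_apply]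
  exact he _ _ hi

variable {C : Type u} [CommRing C] [Algebra R C] (ψ : TP R d M →ₐ[R] C)
  (actC : stab κ → C →ₐ[R] C)
  (he : ∀ i j, i ≠ j → e i * e j = 0)
  (hE : ψ (tprod R fun i => e (κ i)) = 1)
  (hker : ∀ x, ψ x = 0 → (tprod R fun i => e (κ i)) * x = 0)
  (hsurj : Function.Surjective ψ)
  (hact : ∀ (σ : stab κ) x, ψ (perm R d M σ x) = actC σ (ψ x))

include he hE hker hsurj hact in
/-- The lifting of invariants of the stabilizer to symmetric tensors. -/
theorem exists_lift : ∃ Λ : fix actC →ₗ[R] Inv R d M, ∀ u, ψ (Λ u).1 = (u : C) := by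
  classical
  set E : TP R d M := tprod R fun i => e (κ i) with hEdef
  have hle : LinearMap.ker ψ.toLinearMap ≤ LinearMap.ker (LinearMap.mulLeft R E) := fun x hx => hker x hx
  let sc : C →ₗ[R] TP R d M :=
    ((LinearMap.ker ψ.toLinearMap).liftQ (LinearMap.mulLeft R E) hle) ∘ₗ
      (ψ.toLinearMap.quotKerEquivOfSurjective hsurj).symm.toLinearMap
  have hsc : ∀ x, sc (ψ x) = E * x := fun x => by
    have : (ψ.toLinearMap.quotKerEquivOfSurjective hsurj).symm (ψ x) = Submodule.Quotient.mk x :=
      (LinearEquiv.symm_apply_eq _).2 rfl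
    exact (congrArg ((LinearMap.ker ψ.toLinearMap).liftQ (LinearMap.mulLeft R E) hle) this).trans
      (Submodule.liftQ_apply _ _ _)
  have hmem : ∀ u : fix actC, sc u ∈ fixed (permA R d M) (stab κ) := fun u h => by
    obtain ⟨x, hx⟩ := hsurj u
    have h2 : ψ (perm R d M h x) = (u : C) := by rw [hact, hx]; exact u.2 h
    change permA R d M h (sc u) = sc u
    conv_rhs => rw [← h2, hsc]
    rw [← hx, hsc, map_mul, permA_apply, permA_apply, hEdef, perm_E_of_mem κ e h.2]
  let Λ : fix actC →ₗ[R] Inv R d M :=
    { toFun := fun u => ⟨trace (permA R d M) (stab κ) (sc u),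
        (mem_Inv R d M _).2 fun σ => trace_mem (permA R d M) (stab κ) (hmem u) ⟨σ, trivial⟩⟩
      map_add' := fun u v => Subtype.ext (by
        change trace _ _ (sc ((u : C) + v)) = _
        rw [map_add, trace_add]; rfl)
      map_smul' := fun r u => Subtype.ext (by
        change trace _ _ (sc (r • (u : C))) = _
        rw [map_smul, trace_smul]; rfl) }
  refine ⟨Λ, fun u => ?_⟩
  obtain ⟨x, hx⟩ := hsurj u
  have h := trace_sub_mem (permA R d M) (stab κ) (RingHom.ker ψ) (hmem u) fun g hg => by
    rw [RingHom.mem_ker, ← hx, hsc, map_mul, map_mul]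
    have : ψ (permA R d M g E) = 0 := by
      rw [← one_mul (ψ _), ← hE, ← map_mul, permA_apply, hEdef, E_mul_perm_of_notMem κ e he hg, map_zero]
    rw [this, zero_mul]
  rw [RingHom.mem_ker, map_sub, sub_eq_zero] at h
  refine h.trans ?_
  rw [← hx, hsc, map_mul, hE, one_mul]

include he hE hker hsurj hact in
/-- The invariants of the stabilizer form a flat module. -/
theorem flat_fix_stab [Module.Flat R M] : Module.Flat R (fix actC) := by
  obtain ⟨Λ, hΛ⟩ := exists_lift κ e ψ actC he hE hker hsurj hact
  haveI := flat_Inv (R := R) (n := d) (M := M)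
  have hmem : ∀ x : Inv R d M, ψ x.1 ∈ fix actC := fun x σ => by
    rw [← hact, (mem_Inv R d M x.1).1 x.2]
  exact Module.Flat.of_retract Λ ((ψ.toLinearMap ∘ₗ (Inv R d M).subtype).codRestrict
      (Subalgebra.toSubmodule (fix actC)) hmem) (LinearMap.ext fun u => Subtype.ext (hΛ u))

include he hE hker hsurj hact in
/-- The invariants of the stabilizer are spanned by images of orbit sums. -/
theorem mem_span_stab [Module.Flat R M] {ι : Type u} (v : ι → M) (hv : Submodule.span R (Set.range v) = ⊤)
    {u : C} (hu : u ∈ fix actC) :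
    u ∈ Submodule.span R (Set.range fun p : Fin d → ι => ψ (osum R v p)) := by
  obtain ⟨Λ, hΛ⟩ := exists_lift κ e ψ actC he hE hker hsurj hact
  have h := Submodule.apply_mem_span_image_of_mem_span ψ.toLinearMap (mem_span_osum v hv (Λ ⟨u, hu⟩).2)
  rw [← Set.range_comp] at h
  have h' : ψ (Λ ⟨u, hu⟩).1 ∈ Submodule.span R (Set.range fun p : Fin d → ι => ψ (osum R v p)) := h
  rwa [hΛ] at h'

end Groth.Agent.SymProdLib
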