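import Groth.Agent.SymProdLib.Box
import Groth.Agent.SymProdLib.Blocks
import Mathlib.Algebra.Algebra.Pi

/-!
# Coloured boxes in fibre powers

For a colouring `κ` of the factors and affine opens `U j ⊆ f⁻¹V`, the box `∏ U (κ i)` is affine, stable
under the stabilizer of `κ`, and its sections form a block of the tensor power of `∏ Γ(X, U j)`.
-/

set_option autoImplicit false
set_option backward.isDefEq.respectTransparency false
set_option backward.isDefEq.respectTransparency.types false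
set_option linter.style.haveILetI false

universe u

open CategoryTheory CategoryTheory.Limits AlgebraicGeometry TopologicalSpace SymProd
open PiTensorProduct (tprod)
open scoped TensorProduct

namespace Groth.Agent.SymProdLib

variable {X S : Scheme.{u}} {f : X ⟶ S} {d : ℕ} {V : S.Opens}

section Act

variable {O : (fibPow f d).Opens} (hOV : O ≤ (WidePullback.base (fun _ : Fin d => f)) ⁻¹ᵁ V)

/-- Sections of an open over `V` as an algebra over the sections on `V`. -/
@[reducible]
noncomputable def bAlg : Algebra Γ(S, V) Γ(fibPow f d, O) :=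
  ((WidePullback.base (fun _ : Fin d => f)).appLE V O hOV).hom.toAlgebra

/-- An open stable under a subgroup of the symmetric group. -/
def IsStab (H : Subgroup (Equiv.Perm (Fin d))) (O : (fibPow f d).Opens) : Prop :=
  ∀ σ ∈ H, O ≤ (permHom f d σ⁻¹) ⁻¹ᵁ O

/-- A permutation acting on sections. -/
noncomputable def actAlg (σ : Equiv.Perm (Fin d)) (h : O ≤ (permHom f d σ⁻¹) ⁻¹ᵁ O) :
    letI := bAlg hOV; Γ(fibPow f d, O) →ₐ[Γ(S, V)] Γ(fibPow f d, O) :=
  letI := bAlg hOV
  { ((permHom f d σ⁻¹).appLE O O h).hom with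
    commutes' := fun r => by
      change ((permHom f d σ⁻¹).appLE O O h).hom (((WidePullback.base (fun _ : Fin d => f)).appLE V O hOV).hom r) = _
      rw [← CommRingCat.comp_apply, Scheme.Hom.appLE_comp_appLE,
        Groth.Agent.QuotScheme.appLE_congr_hom (permHom_base f d σ⁻¹) V _ _ hOV]
      rfl }

/-- The symmetric group acting on the sections of a stable open. -/
noncomputable def actHom (h : ∀ σ : Equiv.Perm (Fin d), O ≤ (permHom f d σ⁻¹) ⁻¹ᵁ O) :
    letI := bAlg hOV; Equiv.Perm (Fin d) →* (Γ(fibPow f d, O) →ₐ[Γ(S, V)] Γ(fibPow f d, O)) :=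
  letI := bAlg hOV
  { toFun := fun σ => actAlg hOV σ (h σ)
    map_one' := AlgHom.ext fun x => by
      change ((permHom f d (1 : Equiv.Perm (Fin d))⁻¹).appLE O O (h 1)).hom x = x
      rw [Groth.Agent.QuotScheme.appLE_congr_hom (show permHom f d (1 : Equiv.Perm (Fin d))⁻¹ = 𝟙 _ by
        rw [inv_one, permHom_one]) O O _ (by simp)]
      change ((fibPow f d).presheaf.map (homOfLE (le_refl O)).op).hom x = x
      rw [Groth.Agent.QuotScheme.res_self]
      rfl
    map_mul' := fun σ τ => AlgHom.ext fun x => by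
      change ((permHom f d (σ * τ)⁻¹).appLE O O _).hom x =
        ((permHom f d σ⁻¹).appLE O O _).hom (((permHom f d τ⁻¹).appLE O O _).hom x)
      rw [← CommRingCat.comp_apply, Scheme.Hom.appLE_comp_appLE,
        Groth.Agent.QuotScheme.appLE_congr_hom
          (show permHom f d (σ * τ)⁻¹ = permHom f d σ⁻¹ ≫ permHom f d τ⁻¹ by rw [mul_inv_rev, permHom_mul])] }

end Act

variable {J : Type u} (κ : Fin d → J) (U : J → X.Opens)

/-- The coloured box. -/
noncomputable def cbox (f : X ⟶ S) (V : S.Opens) : (fibPow f d).Opens :=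
  (WidePullback.base (fun _ : Fin d => f)) ⁻¹ᵁ V ⊓ ⨅ i : Fin d, (WidePullback.π (fun _ : Fin d => f) i) ⁻¹ᵁ U (κ i)

variable {κ U}

theorem mem_cbox (z : fibPow f d) : z ∈ cbox κ U f V ↔
    (WidePullback.base (fun _ : Fin d => f)).base z ∈ V ∧
      ∀ i, (WidePullback.π (fun _ : Fin d => f) i).base z ∈ U (κ i) := by
  simp only [cbox, ← SetLike.mem_coe, Opens.coe_inf, Set.mem_inter_iff]
  refine and_congr Iff.rfl ?_
  rw [SetLike.mem_coe, ← Finset.inf_univ_eq_iInf, ← SetLike.mem_coe, Opens.coe_finset_inf]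
  simp

theorem cbox_le_base : cbox κ U f V ≤ (WidePullback.base (fun _ : Fin d => f)) ⁻¹ᵁ V := inf_le_left

theorem cbox_le_π (i : Fin d) : cbox κ U f V ≤ (WidePullback.π (fun _ : Fin d => f) i) ⁻¹ᵁ U (κ i) :=
  inf_le_right.trans (iInf_le _ i)

theorem cbox_isStab : IsStab (stab κ) (cbox κ U f V) := by
  intro σ hσ z hz
  rw [mem_cbox] at hz
  refine (mem_cbox _).2 ⟨?_, fun i => ?_⟩
  · rw [← Scheme.Hom.comp_apply, permHom_base]; exact hz.1
  · rw [← Scheme.Hom.comp_apply, permHom_π]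
    have := hz.2 (σ i)
    rwa [hσ i] at this

theorem isAffineOpen_cbox (hU : ∀ j, IsAffineOpen (U j)) (hV : IsAffineOpen V) (hUV : ∀ j, U j ≤ f ⁻¹ᵁ V) :
    IsAffineOpen (cbox κ U f V) := by
  let g : ∀ i : Fin d, (U (κ i) : Scheme.{u}) ⟶ (V : Scheme.{u}) := fun i => f.resLE V (U (κ i)) (hUV _)
  let Q := widePullback (V : Scheme.{u}) (fun i : Fin d => (U (κ i) : Scheme.{u})) g
  haveI : ∀ i, IsAffine (U (κ i) : Scheme.{u}) := fun i => hU _
  haveI : IsAffine (V : Scheme.{u}) := hV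
  haveI : IsAffine Q := by
    haveI : ∀ o, IsAffine ((WidePullbackShape.wideCospan (V : Scheme.{u}) (fun i : Fin d => (U (κ i) : Scheme.{u})) g).obj o) := by
      rintro (_ | i)
      · exact hV
      · exact hU _
    exact Scheme.isAffine_of_isLimit _ (limit.isLimit _)
  let toF : Q ⟶ fibPow f d := WidePullback.lift (WidePullback.base g ≫ V.ι)
    (fun i => WidePullback.π g i ≫ (U (κ i)).ι) fun i => by
      rw [Category.assoc, ← WidePullback.π_arrow g i, Category.assoc, Scheme.Hom.resLE_comp_ι]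
  have hrange : Set.range toF ⊆ Set.range (cbox κ U f V).ι := by
    rw [Scheme.Opens.range_ι]
    rintro _ ⟨y, rfl⟩
    refine (mem_cbox _).2 ⟨?_, fun i => ?_⟩
    · rw [← Scheme.Hom.comp_apply, WidePullback.lift_base]
      exact ((WidePullback.base g).base y).2
    · rw [← Scheme.Hom.comp_apply, WidePullback.lift_π]
      exact ((WidePullback.π g i).base y).2
  let φ : Q ⟶ (cbox κ U f V : Scheme.{u}) := IsOpenImmersion.lift (cbox κ U f V).ι toF hrange
  have h1 : Set.range ((cbox κ U f V).ι ≫ WidePullback.base (fun _ : Fin d => f)) ⊆ Set.range V.ι := by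
    rw [Scheme.Opens.range_ι]; rintro _ ⟨y, rfl⟩; exact ((mem_cbox y.1).1 y.2).1
  have h2 : ∀ i, Set.range ((cbox κ U f V).ι ≫ WidePullback.π (fun _ : Fin d => f) i) ⊆ Set.range (U (κ i)).ι :=
    fun i => by rw [Scheme.Opens.range_ι]; rintro _ ⟨y, rfl⟩; exact ((mem_cbox y.1).1 y.2).2 i
  let ψ : (cbox κ U f V : Scheme.{u}) ⟶ Q := WidePullback.lift (IsOpenImmersion.lift V.ι _ h1)
    (fun i => IsOpenImmersion.lift (U (κ i)).ι _ (h2 i)) fun i => by
      rw [← cancel_mono V.ι, Category.assoc, Scheme.Hom.resLE_comp_ι, IsOpenImmersion.lift_fac_assoc,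
        IsOpenImmersion.lift_fac, Category.assoc, WidePullback.π_arrow]
  have e1 : ψ ≫ toF = (cbox κ U f V).ι := by
    apply WidePullback.hom_ext
    · intro i
      rw [Category.assoc, WidePullback.lift_π, WidePullback.lift_π_assoc, IsOpenImmersion.lift_fac]
    · rw [Category.assoc, WidePullback.lift_base, WidePullback.lift_base_assoc, IsOpenImmersion.lift_fac]
  have hφψ : φ ≫ ψ = 𝟙 _ := by
    apply WidePullback.hom_ext
    · intro i
      rw [← cancel_mono (U (κ i)).ι, Category.id_comp, Category.assoc, Category.assoc, WidePullback.lift_π_assoc,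
        IsOpenImmersion.lift_fac, IsOpenImmersion.lift_fac_assoc, WidePullback.lift_π]
    · rw [← cancel_mono V.ι, Category.id_comp, Category.assoc, Category.assoc, WidePullback.lift_base_assoc,
        IsOpenImmersion.lift_fac, IsOpenImmersion.lift_fac_assoc, WidePullback.lift_base]
  have hψφ : ψ ≫ φ = 𝟙 _ := by
    rw [← cancel_mono (cbox κ U f V).ι, Category.assoc, IsOpenImmersion.lift_fac, e1, Category.id_comp]
  haveI : IsIso ψ := ⟨φ, hψφ, hφψ⟩
  exact IsAffine.of_isIso ψ

set_option maxHeartbeats 2000000 in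
open Classical in
/-- The block map from the tensor power of the product of the rings of the colours to the sections on
the coloured box. -/
theorem exists_block [Fintype J] (hU : ∀ j, IsAffineOpen (U j)) (hV : IsAffineOpen V) (hUV : ∀ j, U j ≤ f ⁻¹ᵁ V) :
    letI : ∀ j, Algebra Γ(S, V) Γ(X, U j) := fun j => (f.appLE V (U j) (hUV j)).hom.toAlgebra
    letI := bAlg (cbox_le_base (f := f) (κ := κ) (U := U) (V := V))
    ∃ ψ : (⨂[Γ(S, V)] _ : Fin d, ∀ j, Γ(X, U j)) →ₐ[Γ(S, V)] Γ(fibPow f d, cbox κ U f V),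
      (∀ w, ψ (tprod Γ(S, V) w) = ∏ i, ((WidePullback.π (fun _ : Fin d => f) i).appLE (U (κ i))
        (cbox κ U f V) (cbox_le_π i)).hom (w i (κ i))) ∧
      Function.Surjective ψ ∧
      ψ (tprod Γ(S, V) fun i => (Pi.single (κ i) 1 : ∀ j, Γ(X, U j))) = 1 ∧
      (∀ x, ψ x = 0 → (tprod Γ(S, V) fun i => (Pi.single (κ i) 1 : ∀ j, Γ(X, U j))) * x = 0) ∧
      ∀ (σ : stab κ) x, ψ (perm Γ(S, V) d (∀ j, Γ(X, U j)) σ x) =
        actAlg cbox_le_base σ.1 (cbox_isStab σ.1 σ.2) (ψ x) := by
  letI alg : ∀ j, Algebra Γ(S, V) Γ(X, U j) := fun j => (f.appLE V (U j) (hUV j)).hom.toAlgebra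
  letI := bAlg (cbox_le_base (f := f) (κ := κ) (U := U) (V := V))
  have hB := isAffineOpen_cbox (κ := κ) (U := U) hU hV hUV
  let pi : ∀ i, (∀ j, Γ(X, U j)) →ₐ[Γ(S, V)] Γ(fibPow f d, cbox κ U f V) := fun i =>
    ({ ((WidePullback.π (fun _ : Fin d => f) i).appLE (U (κ i)) (cbox κ U f V) (cbox_le_π i)).hom with
      commutes' := fun r => by
        change ((WidePullback.π (fun _ : Fin d => f) i).appLE (U (κ i)) _ _).hom ((f.appLE V (U (κ i)) (hUV _)).hom r) = _
        rw [← CommRingCat.comp_apply, Scheme.Hom.appLE_comp_appLE,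
          Groth.Agent.QuotScheme.appLE_congr_hom (WidePullback.π_arrow (fun _ : Fin d => f) i) V _ _ cbox_le_base]
        rfl } : Γ(X, U (κ i)) →ₐ[Γ(S, V)] Γ(fibPow f d, cbox κ U f V)).comp
      (Pi.evalAlgHom Γ(S, V) (fun j => Γ(X, U j)) (κ i))
  have hpi : ∀ i w, pi i w = ((WidePullback.π (fun _ : Fin d => f) i).appLE (U (κ i))
        (cbox κ U f V) (cbox_le_π i)).hom (w (κ i)) := fun i w => rfl
  let ψ : (⨂[Γ(S, V)] _ : Fin d, ∀ j, Γ(X, U j)) →ₐ[Γ(S, V)] Γ(fibPow f d, cbox κ U f V) :=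
    PiTensorProduct.liftAlgHom
      ((MultilinearMap.mkPiAlgebra Γ(S, V) (Fin d) Γ(fibPow f d, cbox κ U f V)).compLinearMap
        fun i => (pi i).toLinearMap)
      (by simp) (fun x y => by simp [Finset.prod_mul_distrib])
  have hψt : ∀ w, ψ (tprod Γ(S, V) w) = ∏ i, pi i (w i) := fun w => by
    simp only [ψ, PiTensorProduct.liftAlgHom_apply, PiTensorProduct.lift.tprod,
      MultilinearMap.compLinearMap_apply, MultilinearMap.mkPiAlgebra_apply]
    rfl
  set E : ⨂[Γ(S, V)] _ : Fin d, ∀ j, Γ(X, U j) :=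
    tprod Γ(S, V) fun i => (Pi.single (κ i) 1 : ∀ j, Γ(X, U j)) with hEdef
  have hψE : ψ E = 1 := by
    rw [hEdef, hψt]
    refine Finset.prod_eq_one fun i _ => ?_
    rw [hpi, Pi.single_eq_same, map_one]
  have hE2 : E * E = E := by
    rw [hEdef, PiTensorProduct.mul_def, PiTensorProduct.mul_tprod_tprod]
    congr 1
    funext i
    simp [← Pi.single_mul]
  let K : Ideal (⨂[Γ(S, V)] _ : Fin d, ∀ j, Γ(X, U j)) := Ideal.span {1 - E}
  let mk := Ideal.Quotient.mkₐ Γ(S, V) K
  have hmk : ∀ x, E * x = 0 → mk x = 0 := fun x hx => by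
    refine (Ideal.Quotient.eq_zero_iff_mem).2 (Ideal.mem_span_singleton'.2 ⟨x, ?_⟩)
    rw [mul_sub, mul_one, mul_comm x E, hx, sub_zero]
  have hone : ∀ i, mk (PiTensorProduct.singleAlgHom (R := Γ(S, V)) (A := fun _ : Fin d => ∀ j, Γ(X, U j)) i
      (Pi.single (κ i) 1)) = 1 := fun i => by
    rw [← sub_eq_zero, ← map_one mk, ← map_sub]
    refine hmk _ ?_
    rw [mul_sub, mul_one, sub_eq_zero, hEdef, PiTensorProduct.singleAlgHom_apply, PiTensorProduct.mul_def,
      PiTensorProduct.mul_tprod_tprod]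
    congr 1
    funext k
    by_cases hk : k = i
    · subst hk; simp [← Pi.single_mul]
    · simp [hk]
  let sg : ∀ i : Fin d, Γ(X, U (κ i)) →ₐ[Γ(S, V)] ((⨂[Γ(S, V)] _ : Fin d, ∀ j, Γ(X, U j)) ⧸ K) := fun i =>
    AlgHom.ofLinearMap (mk.toLinearMap ∘ₗ (PiTensorProduct.singleAlgHom (R := Γ(S, V))
        (A := fun _ : Fin d => ∀ j, Γ(X, U j)) i).toLinearMap ∘ₗ LinearMap.single Γ(S, V) (fun j => (Γ(X, U j) : Type u)) (κ i))
      (hone i)
      (fun a b => by
        simp only [LinearMap.comp_apply, LinearMap.single_apply, AlgHom.toLinearMap_apply]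
        rw [← map_mul, ← map_mul, ← Pi.single_mul])
  let T : CommRingCat.{u} := CommRingCat.of ((⨂[Γ(S, V)] _ : Fin d, ∀ j, Γ(X, U j)) ⧸ K)
  let single : ∀ i : Fin d, Γ(X, U (κ i)) ⟶ T := fun i => CommRingCat.ofHom (sg i).toRingHom
  let str : Γ(S, V) ⟶ T := CommRingCat.ofHom (algebraMap Γ(S, V) _)
  have hstr : ∀ i, f.appLE V (U (κ i)) (hUV _) ≫ single i = str := fun i => by
    ext r
    exact (sg i).commutes r
  let g' : Spec T ⟶ fibPow f d := WidePullback.lift (Spec.map str ≫ hV.fromSpec)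
    (fun i => Spec.map (single i) ≫ (hU (κ i)).fromSpec) fun i => by
      rw [Category.assoc, ← IsAffineOpen.SpecMap_appLE_fromSpec f hV (hU _) (hUV _), ← Spec.map_comp_assoc, hstr i]
  have hrg : Set.range g' ⊆ Set.range (cbox κ U f V).ι := by
    rw [Scheme.Opens.range_ι]
    rintro _ ⟨t, rfl⟩
    refine (mem_cbox _).2 ⟨?_, fun i => ?_⟩
    · rw [← Scheme.Hom.comp_apply, WidePullback.lift_base, Scheme.Hom.comp_apply]
      exact hV.range_fromSpec.le ⟨_, rfl⟩
    · rw [← Scheme.Hom.comp_apply, WidePullback.lift_π, Scheme.Hom.comp_apply]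
      exact (hU _).range_fromSpec.le ⟨_, rfl⟩
  let φ : Γ(fibPow f d, cbox κ U f V) ⟶ T :=
    Spec.preimage (IsOpenImmersion.lift (cbox κ U f V).ι g' hrg ≫ hB.isoSpec.hom)
  have hφ : Spec.map φ ≫ hB.fromSpec = g' := by
    rw [Spec.map_preimage, Category.assoc, hB.isoSpec_hom_fromSpec, IsOpenImmersion.lift_fac]
  have hπ : ∀ i, (WidePullback.π (fun _ : Fin d => f) i).appLE (U (κ i)) _ (cbox_le_π i) ≫ φ = single i := fun i => by
    apply Spec.map_injective
    rw [← cancel_mono (hU (κ i)).fromSpec, Spec.map_comp, Category.assoc,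
      IsAffineOpen.SpecMap_appLE_fromSpec _ (hU _) hB, reassoc_of% hφ, WidePullback.lift_π]
  have hbase : (WidePullback.base (fun _ : Fin d => f)).appLE V _ cbox_le_base ≫ φ = str := by
    apply Spec.map_injective
    rw [← cancel_mono hV.fromSpec, Spec.map_comp, Category.assoc,
      IsAffineOpen.SpecMap_appLE_fromSpec _ hV hB, reassoc_of% hφ, WidePullback.lift_base]
  let φ' : Γ(fibPow f d, cbox κ U f V) →ₐ[Γ(S, V)] ((⨂[Γ(S, V)] _ : Fin d, ∀ j, Γ(X, U j)) ⧸ K) :=
    { φ.hom with commutes' := fun r => congr($(hbase) r) }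
  have h1 : φ'.comp ψ = mk := PiTensorProduct.algHom_ext fun i => AlgHom.ext fun a => by
    change φ.hom (ψ (PiTensorProduct.singleAlgHom (R := Γ(S, V)) i a)) =
      mk (PiTensorProduct.singleAlgHom (R := Γ(S, V)) i a)
    rw [PiTensorProduct.singleAlgHom_apply, hψt]
    rw [Finset.prod_eq_single i (fun k _ hk => by simp [hk]) (fun h => (h (Finset.mem_univ i)).elim)]
    simp only [MonoidHom.mulSingle_apply, Pi.mulSingle_eq_same, hpi]
    refine Eq.trans (congr($(hπ i) (a (κ i)))) ?_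
    have ha : (Pi.single (κ i) (a (κ i)) : ∀ j, Γ(X, U j)) = a * Pi.single (κ i) 1 := by
      funext j
      by_cases hj : j = κ i
      · subst hj; simp
      · simp [hj]
    change mk (PiTensorProduct.singleAlgHom (R := Γ(S, V)) i (Pi.single (κ i) (a (κ i)))) = _
    rw [ha, map_mul, map_mul, hone]
    exact mul_one (mk (PiTensorProduct.singleAlgHom (R := Γ(S, V)) i a))
  have hker : ∀ x, ψ x = 0 → E * x = 0 := fun x hx => by
    have : mk x = 0 := by rw [← h1, AlgHom.comp_apply, hx, map_zero]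
    obtain ⟨y, rfl⟩ := Ideal.mem_span_singleton'.1 ((Ideal.Quotient.eq_zero_iff_mem).1 this)
    rw [mul_sub, mul_one, mul_sub, ← mul_assoc, mul_comm E y, mul_assoc, hE2, sub_self]
  have hKψ : ∀ x ∈ K, ψ x = 0 := fun x hx => by
    obtain ⟨y, rfl⟩ := Ideal.mem_span_singleton'.1 hx
    rw [map_mul, map_sub, map_one, hψE, sub_self, mul_zero]
  let ψC : T ⟶ Γ(fibPow f d, cbox κ U f V) := CommRingCat.ofHom (Ideal.Quotient.lift K ψ.toRingHom hKψ)
  have hψC : ∀ i, single i ≫ ψC = (WidePullback.π (fun _ : Fin d => f) i).appLE (U (κ i)) _ (cbox_le_π i) :=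
    fun i => by
      ext a
      change ψ (PiTensorProduct.singleAlgHom (R := Γ(S, V)) i (Pi.single (κ i) a)) = _
      rw [PiTensorProduct.singleAlgHom_apply, hψt,
        Finset.prod_eq_single i (fun k _ hk => by simp [hk]) (fun h => (h (Finset.mem_univ i)).elim),
        MonoidHom.mulSingle_apply, Pi.mulSingle_eq_same, hpi, Pi.single_eq_same]
  have hψstr : str ≫ ψC = (WidePullback.base (fun _ : Fin d => f)).appLE V _ cbox_le_base := by
    ext r; exact ψ.commutes r
  have h2C : φ ≫ ψC = 𝟙 _ := by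
    apply Spec.map_injective
    rw [← cancel_mono hB.fromSpec, Spec.map_comp, Category.assoc, hφ, Spec.map_id, Category.id_comp]
    apply WidePullback.hom_ext
    · intro i
      rw [Category.assoc, WidePullback.lift_π, ← Spec.map_comp_assoc, hψC i,
        IsAffineOpen.SpecMap_appLE_fromSpec _ (hU _) hB]
    · rw [Category.assoc, WidePullback.lift_base, ← Spec.map_comp_assoc, hψstr,
        IsAffineOpen.SpecMap_appLE_fromSpec _ hV hB]
  refine ⟨ψ, fun w => (hψt w).trans (Finset.prod_congr rfl fun i _ => hpi i (w i)), fun c => ?_, hψE, hker,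
    fun σ x => ?_⟩
  · obtain ⟨x, hx⟩ := Ideal.Quotient.mk_surjective (φ.hom c)
    refine ⟨x, ?_⟩
    have := congr($(h2C) c)
    change Ideal.Quotient.lift K ψ.toRingHom hKψ (φ.hom c) = c at this
    rwa [← hx, Ideal.Quotient.lift_mk] at this
  · induction x using PiTensorProduct.induction_on with
    | smul_tprod r v =>
      rw [map_smul, perm_tprod, map_smul, map_smul, map_smul, hψt, hψt, map_prod]
      congr 1
      refine Fintype.prod_equiv σ.1.symm _ _ fun i => ?_
      rw [hpi, hpi]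
      change _ = ((permHom f d σ.1⁻¹).appLE _ _ _).hom _
      rw [← CommRingCat.comp_apply, Scheme.Hom.appLE_comp_appLE]
      have hi : κ (σ.1.symm i) = κ i := (stab κ).inv_mem σ.2 i
      have hpp : permHom f d σ.1⁻¹ ≫ WidePullback.π (fun _ : Fin d => f) (σ.1.symm i) =
          WidePullback.π (fun _ : Fin d => f) i := by
        rw [permHom_π]
        exact congrArg _ (σ.1.apply_symm_apply i)
      rw [Groth.Agent.QuotScheme.appLE_congr_hom hpp _ _ _ (hi.symm ▸ cbox_le_π i)]
      suffices key : ∀ (j : J) (hj : κ i = j) (hle : cbox κ U f V ≤ (WidePullback.π (fun _ : Fin d => f) i) ⁻¹ᵁ U j),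
          ((WidePullback.π (fun _ : Fin d => f) i).appLE (U (κ i)) (cbox κ U f V) (cbox_le_π i)).hom (v (σ.1.symm i) (κ i)) =
            ((WidePullback.π (fun _ : Fin d => f) i).appLE (U j) (cbox κ U f V) hle).hom (v (σ.1.symm i) j) from
        key _ hi.symm _
      rintro j rfl hle
      rfl
    | add a b ha hb => simp only [map_add, ha, hb]

end Groth.Agent.SymProdLib
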