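import Groth.Agent.SymProdLib.Local
import Mathlib.RingTheory.IntegralClosure.IntegralRestrict

/-!
# Invariants after a base change or a closed immersion

For `X'' → S''` flat, obtained from `X → S` by base change and passage to a closed subscheme, the symmetric
invariants on the affine pieces of the fibre power of `X''` are combinations, with coefficients from `S''`,
of restrictions of symmetric invariants on the fibre power of `X`.
-/

set_option autoImplicit false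
set_option backward.isDefEq.respectTransparency false
set_option backward.isDefEq.respectTransparency.types false
set_option linter.style.haveILetI false
set_option linter.unusedSectionVars false

universe u

open CategoryTheory CategoryTheory.Limits AlgebraicGeometry TopologicalSpace SymProd
open PiTensorProduct (tprod)

namespace Groth.Agent.SymProdLib

section Algebra

variable {R R' A A' : Type u} [CommRing R] [CommRing R'] [CommRing A] [CommRing A'] [Algebra R A] [Algebra R' A']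
  {G : Type*} [Group G] [Fintype G] (act : G →* (A →ₐ[R] A)) (φ : A →+* A')

/-- A local criterion for being a combination of images of invariants. -/
theorem mem_span_fixed (hspan : Submodule.span R' (Set.range φ) = ⊤) (s : A')
    (hloc : ∀ P : Ideal A', P.IsPrime → ∃ t ∈ fixed act (⊤ : Subgroup G), φ t ∉ P ∧
      φ t * s ∈ Submodule.span R' (φ '' (fixed act (⊤ : Subgroup G) : Set A))) :
    s ∈ Submodule.span R' (φ '' (fixed act (⊤ : Subgroup G) : Set A)) := by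
  let Bs : Submonoid A' :=
    Submonoid.map φ.toMonoidHom (fixed act (⊤ : Subgroup G)).toSubmonoid
  let K : Subalgebra R' A' := Algebra.adjoin R' (Bs : Set A')
  have hK : ∀ x, x ∈ K ↔ x ∈ Submodule.span R' (φ '' (fixed act (⊤ : Subgroup G) : Set A)) := fun x => by
    rw [← Subalgebra.mem_toSubmodule, Algebra.adjoin_eq_span, Submonoid.closure_eq]
    exact Iff.rfl
  haveI : Algebra.IsIntegral K A' := by
    haveI := isIntegral_fixed_top act
    let φ' : fixed act (⊤ : Subgroup G) →+* K :=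
      (φ.comp (fixed act (⊤ : Subgroup G)).val.toRingHom).codRestrict K fun x =>
        Algebra.subset_adjoin ⟨x.1, x.2, rfl⟩
    refine ⟨fun x => ?_⟩
    have hx : x ∈ Submodule.span R' (Set.range φ) := hspan ▸ Submodule.mem_top
    induction hx using Submodule.span_induction with
    | mem y hy =>
      obtain ⟨a, rfl⟩ := hy
      obtain ⟨p, hp, hpa⟩ := Algebra.IsIntegral.isIntegral (R := fixed act (⊤ : Subgroup G)) a
      refine ⟨p.map φ', hp.map φ', ?_⟩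
      rw [Polynomial.eval₂_map]
      have h : (algebraMap K A').comp φ' = φ.comp (algebraMap (fixed act (⊤ : Subgroup G)) A) := RingHom.ext fun y => rfl
      rw [h, ← Polynomial.hom_eval₂, hpa, map_zero]
    | zero => exact isIntegral_zero
    | add y z _ _ hy hz => exact hy.add hz
    | smul r y _ hy =>
      rw [Algebra.smul_def]
      exact (isIntegral_algebraMap (x := algebraMap R' K r)).mul hy
  let J : Ideal K :=
    { carrier := {k | (k : A') * s ∈ K}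
      add_mem' := fun {a b} ha hb => by
        simp only [Set.mem_ofPred_eq, Subalgebra.coe_add, add_mul] at ha hb ⊢
        exact add_mem ha hb
      zero_mem' := by simp
      smul_mem' := fun c {a} ha => by
        simp only [Set.mem_ofPred_eq, smul_eq_mul, Subalgebra.coe_mul, mul_assoc] at ha ⊢
        exact mul_mem c.2 ha }
  suffices h1 : (1 : K) ∈ J by
    refine (hK s).1 ?_
    simpa [J] using h1
  by_contra h1
  obtain ⟨m, hm, hJm⟩ := J.exists_le_maximal fun h => h1 (h ▸ Submodule.mem_top)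
  obtain ⟨Q, hQ', hQm⟩ := Ideal.exists_ideal_over_maximal_of_isIntegral (S := A') m
    (fun x hx => by rw [(Subtype.ext hx : x = 0)]; exact m.zero_mem)
  obtain ⟨t, ht, htQ, hts⟩ := hloc Q hQ'.isPrime
  have htK : φ t ∈ K := Algebra.subset_adjoin ⟨t, ht, rfl⟩
  refine htQ ?_
  have hmem : (⟨φ t, htK⟩ : K) ∈ m := hJm (show φ t * s ∈ K from (hK _).2 hts)
  rw [← hQm] at hmem
  exact hmem

end Algebra

variable {X S X'' S'' : Scheme.{u}} {f : X ⟶ S} {f'' : X'' ⟶ S''} {i : X'' ⟶ X} {gs : S'' ⟶ S} {d : ℕ}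
  {c : fibPow f'' d ⟶ fibPow f d}

theorem perm_comm (hcπ : ∀ k, c ≫ WidePullback.π (fun _ => f) k = WidePullback.π (fun _ => f'') k ≫ i)
    (hcb : c ≫ WidePullback.base (fun _ => f) = WidePullback.base (fun _ => f'') ≫ gs) (σ : Equiv.Perm (Fin d)) :
    permHom f'' d σ ≫ c = c ≫ permHom f d σ := by
  apply WidePullback.hom_ext
  · intro k
    rw [Category.assoc, Category.assoc, hcπ, permHom_π, hcπ, permHom_π_assoc]
  · rw [Category.assoc, Category.assoc, hcb, permHom_base, hcb, permHom_base_assoc]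

theorem appLE_actAlg (hcπ : ∀ k, c ≫ WidePullback.π (fun _ => f) k = WidePullback.π (fun _ => f'') k ≫ i)
    (hcb : c ≫ WidePullback.base (fun _ => f) = WidePullback.base (fun _ => f'') ≫ gs)
    {V : S.Opens} {V'' : S''.Opens} {O : (fibPow f d).Opens} {O'' : (fibPow f'' d).Opens}
    (hOV : O ≤ (WidePullback.base (fun _ : Fin d => f)) ⁻¹ᵁ V)
    (hOV'' : O'' ≤ (WidePullback.base (fun _ : Fin d => f'')) ⁻¹ᵁ V'') (hc : O'' ≤ c ⁻¹ᵁ O)
    (σ : Equiv.Perm (Fin d)) (e : O ≤ (permHom f d σ⁻¹) ⁻¹ᵁ O) (e'' : O'' ≤ (permHom f'' d σ⁻¹) ⁻¹ᵁ O'')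
    (x : Γ(fibPow f d, O)) :
    letI := bAlg hOV; letI := bAlg hOV''
    (c.appLE O O'' hc).hom (actAlg hOV σ e x) = actAlg hOV'' σ e'' ((c.appLE O O'' hc).hom x) := by
  change (c.appLE O O'' hc).hom (((permHom f d σ⁻¹).appLE O O e).hom x) =
    ((permHom f'' d σ⁻¹).appLE O'' O'' e'').hom ((c.appLE O O'' hc).hom x)
  rw [← CommRingCat.comp_apply, ← CommRingCat.comp_apply, Scheme.Hom.appLE_comp_appLE, Scheme.Hom.appLE_comp_appLE]
  exact congr($(Groth.Agent.QuotScheme.appLE_congr_hom (perm_comm hcπ hcb σ⁻¹).symm O O'' _ _) x)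

/-- On coloured boxes the invariants of the stabilizer are spanned by restrictions of invariants. -/
theorem mem_span_box [Flat f''] (hcπ : ∀ k, c ≫ WidePullback.π (fun _ => f) k = WidePullback.π (fun _ => f'') k ≫ i)
    {J : Type u} [Fintype J] {κ : Fin d → J} {U : J → X.Opens} {V : S.Opens} {V'' : S''.Opens}
    (hU : ∀ j, IsAffineOpen (U j)) (hV : IsAffineOpen V) (hUV : ∀ j, U j ≤ f ⁻¹ᵁ V) (hV'' : IsAffineOpen V'')
    (hU'' : ∀ j, IsAffineOpen (i ⁻¹ᵁ U j ⊓ f'' ⁻¹ᵁ V''))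
    (hspan : ∀ j, letI := (f''.appLE V'' (i ⁻¹ᵁ U j ⊓ f'' ⁻¹ᵁ V'') inf_le_right).hom.toAlgebra
      Submodule.span Γ(S'', V'') (Set.range (i.appLE (U j) (i ⁻¹ᵁ U j ⊓ f'' ⁻¹ᵁ V'') inf_le_left).hom) = ⊤)
    (hc : cbox κ (fun j => i ⁻¹ᵁ U j ⊓ f'' ⁻¹ᵁ V'') f'' V'' ≤ c ⁻¹ᵁ cbox κ U f V) :
    letI := bAlg (cbox_le_base (f := f'') (κ := κ) (U := fun j => i ⁻¹ᵁ U j ⊓ f'' ⁻¹ᵁ V'') (V := V''))
    letI := bAlg (cbox_le_base (f := f) (κ := κ) (U := U) (V := V))
    ∀ u, (∀ σ : stab κ, actAlg cbox_le_base σ.1 (cbox_isStab σ.1 σ.2) u = u) →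
      u ∈ Submodule.span Γ(S'', V'') ((c.appLE (cbox κ U f V) _ hc).hom ''
        {y | ∀ σ : stab κ, actAlg cbox_le_base σ.1 (cbox_isStab σ.1 σ.2) y = y}) := by
  classical
  letI := bAlg (cbox_le_base (f := f'') (κ := κ) (U := fun j => i ⁻¹ᵁ U j ⊓ f'' ⁻¹ᵁ V'') (V := V''))
  letI := bAlg (cbox_le_base (f := f) (κ := κ) (U := U) (V := V))
  intro u hu
  letI : ∀ j, Algebra Γ(S, V) Γ(X, U j) := fun j => (f.appLE V (U j) (hUV j)).hom.toAlgebra
  letI : ∀ j, Algebra Γ(S'', V'') Γ(X'', i ⁻¹ᵁ U j ⊓ f'' ⁻¹ᵁ V'') := fun j =>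
    (f''.appLE V'' (i ⁻¹ᵁ U j ⊓ f'' ⁻¹ᵁ V'') inf_le_right).hom.toAlgebra
  haveI : ∀ j, Module.Flat Γ(S'', V'') Γ(X'', i ⁻¹ᵁ U j ⊓ f'' ⁻¹ᵁ V'') := fun j =>
    RingHom.flat_algebraMap_iff.1 (HasRingHomProperty.appLE @Flat f'' inferInstance ⟨V'', hV''⟩ ⟨_, hU'' j⟩ _)
  haveI : Module.Flat Γ(S'', V'') (∀ j, Γ(X'', i ⁻¹ᵁ U j ⊓ f'' ⁻¹ᵁ V'')) :=
    Module.Flat.of_linearEquiv (DirectSum.linearEquivFunOnFintype Γ(S'', V'') J
      fun j => (Γ(X'', i ⁻¹ᵁ U j ⊓ f'' ⁻¹ᵁ V'') : Type u)).symm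
  obtain ⟨ψ, hψ, -, -, -, hact⟩ := exists_block (f := f) (κ := κ) (U := U) hU hV hUV
  obtain ⟨ψ'', hψ'', hsurj, hE, hker, hact''⟩ := exists_block (f := f'') (κ := κ)
    (U := fun j => i ⁻¹ᵁ U j ⊓ f'' ⁻¹ᵁ V'') hU'' hV'' (fun j => inf_le_right)
  let v : (∀ j, Γ(X, U j)) → ∀ j, Γ(X'', i ⁻¹ᵁ U j ⊓ f'' ⁻¹ᵁ V'') := fun m j =>
    (i.appLE (U j) (i ⁻¹ᵁ U j ⊓ f'' ⁻¹ᵁ V'') inf_le_left).hom (m j)
  have hv : Submodule.span Γ(S'', V'') (Set.range v) = ⊤ := by
    refine eq_top_iff.2 fun w _ => ?_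
    rw [← Finset.univ_sum_single w]
    refine Submodule.sum_mem _ fun j _ => ?_
    have hw : w j ∈ Submodule.span Γ(S'', V'')
        (Set.range (i.appLE (U j) (i ⁻¹ᵁ U j ⊓ f'' ⁻¹ᵁ V'') inf_le_left).hom) := by rw [hspan j]; trivial
    generalize w j = y at hw
    induction hw using Submodule.span_induction with
    | mem y hy =>
      obtain ⟨a, rfl⟩ := hy
      refine Submodule.subset_span ⟨Pi.single j a, funext fun k => ?_⟩
      by_cases hk : k = j
      · subst hk; simp [v]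
      · simp [v, hk]
    | zero => simp
    | add a b _ _ ha hb => rw [Pi.single_add]; exact Submodule.add_mem _ ha hb
    | smul r a _ ha => rw [Pi.single_smul]; exact Submodule.smul_mem _ _ ha
  have hmem := mem_span_stab κ (fun j => (Pi.single j 1 : ∀ j, Γ(X'', i ⁻¹ᵁ U j ⊓ f'' ⁻¹ᵁ V''))) ψ''
    (fun σ => actAlg cbox_le_base σ.1 (cbox_isStab σ.1 σ.2))
    (fun a b hab => by
      funext k
      by_cases hk : k = a
      · subst hk; simp [hab]
      · simp [hk])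
    hE hker hsurj hact'' v hv (show u ∈ fix (fun σ : stab κ => actAlg cbox_le_base σ.1 (cbox_isStab σ.1 σ.2)) from hu)
  refine Submodule.span_mono ?_ hmem
  rintro _ ⟨p, rfl⟩
  refine ⟨ψ (osum Γ(S, V) (id : (∀ j, Γ(X, U j)) → _) p), fun σ => ?_, ?_⟩
  · rw [← hact, (mem_Inv _ _ _ _).1 (osum_mem (id : (∀ j, Γ(X, U j)) → _) p)]
  · simp only [osum, map_sum]
    refine Finset.sum_congr rfl fun q _ => ?_
    rw [hψ, hψ'', map_prod]
    refine Finset.prod_congr rfl fun k _ => ?_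
    simp only [v, id]
    rw [← CommRingCat.comp_apply, ← CommRingCat.comp_apply, Scheme.Hom.appLE_comp_appLE,
      Scheme.Hom.appLE_comp_appLE]
    exact congr($(Groth.Agent.QuotScheme.appLE_congr_hom (hcπ k) _ _ _ _) (q k (κ k)))

/-- Invariants on an affine piece of the fibre power of `X''` are spanned by restrictions of invariants. -/
theorem mem_span_affine [Flat f''] (hcπ : ∀ k, c ≫ WidePullback.π (fun _ => f) k = WidePullback.π (fun _ => f'') k ≫ i)
    (hcb : c ≫ WidePullback.base (fun _ => f) = WidePullback.base (fun _ => f'') ≫ gs)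
    (w : i ≫ f = f'' ≫ gs)
    {V : S.Opens} {V'' : S''.Opens} (hV : IsAffineOpen V) (hV'' : IsAffineOpen V'') (hVV : V'' ≤ gs ⁻¹ᵁ V)
    (hX : ∀ U : X.Opens, IsAffineOpen U → U ≤ f ⁻¹ᵁ V →
      letI := (f''.appLE V'' (i ⁻¹ᵁ U ⊓ f'' ⁻¹ᵁ V'') inf_le_right).hom.toAlgebra
      IsAffineOpen (i ⁻¹ᵁ U ⊓ f'' ⁻¹ᵁ V'') ∧
        Submodule.span Γ(S'', V'') (Set.range (i.appLE U (i ⁻¹ᵁ U ⊓ f'' ⁻¹ᵁ V'') inf_le_left).hom) = ⊤)
    {W : (fibPow f d).Opens} (hW : IsAffineOpen W) (hWV : W ≤ (WidePullback.base (fun _ : Fin d => f)) ⁻¹ᵁ V)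
    (hst : ∀ σ : Equiv.Perm (Fin d), W ≤ (permHom f d σ⁻¹) ⁻¹ᵁ W)
    {W'' : (fibPow f'' d).Opens} (hW'' : IsAffineOpen W'')
    (hW''V : W'' ≤ (WidePullback.base (fun _ : Fin d => f'')) ⁻¹ᵁ V'') (hcW : W'' ≤ c ⁻¹ᵁ W)
    (hWeq : c ⁻¹ᵁ W ⊓ (WidePullback.base (fun _ : Fin d => f'')) ⁻¹ᵁ V'' ≤ W'')
    (hst'' : ∀ σ : Equiv.Perm (Fin d), W'' ≤ (permHom f'' d σ⁻¹) ⁻¹ᵁ W'')
    (hgen : letI := bAlg hW''V; Submodule.span Γ(S'', V'') (Set.range (c.appLE W W'' hcW).hom) = ⊤) :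
    letI := bAlg hWV; letI := bAlg hW''V
    ∀ s ∈ fixed (actHom hW''V hst'') (⊤ : Subgroup (Equiv.Perm (Fin d))),
      s ∈ Submodule.span Γ(S'', V'')
        ((c.appLE W W'' hcW).hom '' (fixed (actHom hWV hst) (⊤ : Subgroup (Equiv.Perm (Fin d))) : Set _)) := by
  classical
  letI := bAlg hWV
  letI := bAlg hW''V
  intro s hs
  refine mem_span_fixed (actHom hWV hst) (c.appLE W W'' hcW).hom hgen s fun P hP => ?_
  let pt : W'' := ⟨hW''.fromSpec.base ⟨P, hP⟩, hW''.range_fromSpec.le ⟨_, rfl⟩⟩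
  have hpt : (hW''.primeIdealOf pt).asIdeal = P := by
    rw [show hW''.primeIdealOf pt = ⟨P, hP⟩ from hW''.fromSpec.isOpenEmbedding.injective (hW''.fromSpec_primeIdealOf pt)]
  obtain ⟨J, _, κ, U, hU, hUV, a, ha, hza, hbad, hle, hDst, b, hb, hDb⟩ := exists_local hV hW hWV hst (c pt.1) (hcW pt.2)
  have hnot : ∀ g ∉ stab κ, c pt.1 ∉ (fibPow f d).basicOpen (actHom hWV hst g a) := fun g hg h =>
    hbad g hg ((mem_basicOpen_actAlg hWV g (hst g) a _).1 h).2
  have hmemP : ∀ x : Γ(fibPow f d, W), (c.appLE W W'' hcW).hom x ∈ P ↔ c pt.1 ∉ (fibPow f d).basicOpen x := fun x => by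
    conv_lhs => rw [← hpt]
    rw [Groth.Agent.QuotScheme.mem_primeIdealOf_iff, Scheme.basicOpen_appLE]
    exact not_congr ⟨fun h => h.2, fun h => ⟨pt.2, h⟩⟩
  -- the boxes and the common localization
  letI := bAlg (cbox_le_base (f := f) (κ := κ) (U := U) (V := V))
  letI := bAlg (cbox_le_base (f := f'') (κ := κ) (U := fun j => i ⁻¹ᵁ U j ⊓ f'' ⁻¹ᵁ V'') (V := V''))
  have hbox : cbox κ (fun j => i ⁻¹ᵁ U j ⊓ f'' ⁻¹ᵁ V'') f'' V'' =
      c ⁻¹ᵁ cbox κ U f V ⊓ (WidePullback.base (fun _ : Fin d => f'')) ⁻¹ᵁ V'' := by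
    ext y
    simp only [SetLike.mem_coe, mem_cbox, Opens.coe_inf, Set.mem_inter_iff, Scheme.Hom.coe_preimage, Set.mem_preimage]
    rw [← Scheme.Hom.comp_apply c, hcb, Scheme.Hom.comp_apply]
    refine ⟨fun h => ⟨⟨hVV h.1, fun k => ?_⟩, h.1⟩, fun h => ⟨h.2, fun k => ⟨?_, ?_⟩⟩⟩
    · rw [← Scheme.Hom.comp_apply, hcπ, Scheme.Hom.comp_apply]
      exact (h.2 k).1
    · show i ((WidePullback.π (fun _ : Fin d => f'') k) y) ∈ U (κ k)
      rw [← Scheme.Hom.comp_apply, ← hcπ, Scheme.Hom.comp_apply]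
      exact h.1.2 k
    · show f'' ((WidePullback.π (fun _ : Fin d => f'') k) y) ∈ V''
      rw [← Scheme.Hom.comp_apply, WidePullback.π_arrow]
      exact h.2
  have hcC : cbox κ (fun j => i ⁻¹ᵁ U j ⊓ f'' ⁻¹ᵁ V'') f'' V'' ≤ c ⁻¹ᵁ cbox κ U f V := hbox.le.trans inf_le_left
  let φW : Γ(fibPow f d, W) →+* Γ(fibPow f'' d, W'') := (c.appLE W W'' hcW).hom
  let φC : Γ(fibPow f d, cbox κ U f V) →+* Γ(fibPow f'' d, cbox κ (fun j => i ⁻¹ᵁ U j ⊓ f'' ⁻¹ᵁ V'') f'' V'') :=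
    (c.appLE _ _ hcC).hom
  let D := (fibPow f d).basicOpen a
  have hDV : D ≤ (WidePullback.base (fun _ : Fin d => f)) ⁻¹ᵁ V := ((fibPow f d).basicOpen_le a).trans hWV
  let D'' := (fibPow f'' d).basicOpen (φW a)
  have hD''W : D'' ≤ W'' := (fibPow f'' d).basicOpen_le _
  have hD'' : D'' = W'' ⊓ c ⁻¹ᵁ D := Scheme.basicOpen_appLE c W'' W hcW a
  have hD''C : D'' = (fibPow f'' d).basicOpen (φC b) := by
    rw [hD'', show (fibPow f'' d).basicOpen (φC b) = _ ⊓ c ⁻¹ᵁ (fibPow f d).basicOpen b from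
      Scheme.basicOpen_appLE c _ _ hcC b, hDb, hbox]
    refine le_antisymm (le_inf (le_inf (inf_le_right.trans (c.preimage_mono hle)) (inf_le_left.trans hW''V)) inf_le_right)
      (le_inf ((le_inf (inf_le_right.trans (c.preimage_mono ((fibPow f d).basicOpen_le a)))
        (inf_le_left.trans inf_le_right)).trans hWeq) inf_le_right)
  have hD''le : D'' ≤ cbox κ (fun j => i ⁻¹ᵁ U j ⊓ f'' ⁻¹ᵁ V'') f'' V'' := hD''C.le.trans ((fibPow f'' d).basicOpen_le _)
  have hD''V : D'' ≤ (WidePullback.base (fun _ : Fin d => f'')) ⁻¹ᵁ V'' := hD''W.trans hW''V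
  have hcD : D'' ≤ c ⁻¹ᵁ D := hD''.le.trans inf_le_right
  letI := bAlg hDV
  letI := bAlg hD''V
  have hfa'' : φW a ∈ fixed (actHom hW''V hst'') (stab κ) := fun σ => by
    change actAlg hW''V σ.1 (hst'' σ.1) _ = _
    rw [← appLE_actAlg hcπ hcb hWV hW''V hcW σ.1 (hst σ.1) (hst'' σ.1) a]
    exact congrArg φW (ha σ)
  have hD''st : ∀ σ ∈ stab κ, D'' ≤ (permHom f'' d σ⁻¹) ⁻¹ᵁ D'' := fun σ hσ y hy => by
    have := hfa'' ⟨σ, hσ⟩
    change actAlg hW''V σ (hst'' σ) (φW a) = φW a at this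
    change y ∈ (fibPow f'' d).basicOpen (φW a) at hy
    rw [← this] at hy
    exact ((mem_basicOpen_actAlg hW''V σ (hst'' σ) (φW a) y).1 hy).2
  -- restriction maps
  let rW := resAlg hWV hDV ((fibPow f d).basicOpen_le a)
  let rC := resAlg (cbox_le_base (f := f) (κ := κ) (U := U) (V := V)) hDV hle
  let rW'' := resAlg hW''V hD''V hD''W
  let rC'' := resAlg (cbox_le_base (f := f'') (κ := κ) (U := fun j => i ⁻¹ᵁ U j ⊓ f'' ⁻¹ᵁ V'') (V := V'')) hD''V hD''le
  let φD : Γ(fibPow f d, D) →+* Γ(fibPow f'' d, D'') := (c.appLE D D'' hcD).hom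
  have hnatW : ∀ x, rW'' (φW x) = φD (rW x) := fun x => by
    change ((fibPow f'' d).presheaf.map (homOfLE hD''W).op).hom ((c.appLE W W'' hcW).hom x) =
      (c.appLE D D'' hcD).hom (((fibPow f d).presheaf.map (homOfLE _).op).hom x)
    rw [← CommRingCat.comp_apply, ← CommRingCat.comp_apply, Scheme.Hom.appLE_map, Scheme.Hom.map_appLE]
  have hnatC : ∀ x, rC'' (φC x) = φD (rC x) := fun x => by
    change ((fibPow f'' d).presheaf.map (homOfLE hD''le).op).hom ((c.appLE _ _ hcC).hom x) =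
      (c.appLE D D'' hcD).hom (((fibPow f d).presheaf.map (homOfLE _).op).hom x)
    rw [← CommRingCat.comp_apply, ← CommRingCat.comp_apply, Scheme.Hom.appLE_map, Scheme.Hom.map_appLE]
  let σW : stab κ → Γ(fibPow f d, W) →ₐ[Γ(S, V)] Γ(fibPow f d, W) := fun h => actHom hWV hst h.1
  let σC : stab κ → Γ(fibPow f d, cbox κ U f V) →ₐ[Γ(S, V)] Γ(fibPow f d, cbox κ U f V) :=
    fun h => actAlg cbox_le_base h.1 (cbox_isStab h.1 h.2)
  let τ : stab κ → Γ(fibPow f d, D) →ₐ[Γ(S, V)] Γ(fibPow f d, D) := fun h => actAlg hDV h.1 (hDst h.1 h.2)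
  let σC'' : stab κ → _ →ₐ[Γ(S'', V'')] _ := fun h =>
    actAlg (cbox_le_base (f := f'') (κ := κ) (U := fun j => i ⁻¹ᵁ U j ⊓ f'' ⁻¹ᵁ V'') (V := V'')) h.1 (cbox_isStab h.1 h.2)
  let τ'' : stab κ → Γ(fibPow f'' d, D'') →ₐ[Γ(S'', V'')] Γ(fibPow f'' d, D'') :=
    fun h => actAlg hD''V h.1 (hD''st h.1 h.2)
  have hresW : ∀ h y, rW (σW h y) = τ h (rW y) := fun h y =>
    resAlg_actAlg hWV hDV _ h.1 (hst h.1) (hDst h.1 h.2) y
  have hresC : ∀ h y, rC (σC h y) = τ h (rC y) := fun h y =>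
    resAlg_actAlg cbox_le_base hDV hle h.1 (cbox_isStab h.1 h.2) (hDst h.1 h.2) y
  have hresC'' : ∀ h y, rC'' (σC'' h y) = τ'' h (rC'' y) := fun h y =>
    resAlg_actAlg cbox_le_base hD''V hD''le h.1 (cbox_isStab h.1 h.2) (hD''st h.1 h.2) y
  have hlocW := isLocalization_resAlg hWV hW hDV ((fibPow f d).basicOpen_le a) (x := a) rfl
  have hlocW'' := isLocalization_resAlg hW''V hW'' hD''V hD''W (x := φW a) rfl
  have hbox'' : IsAffineOpen (cbox κ (fun j => i ⁻¹ᵁ U j ⊓ f'' ⁻¹ᵁ V'') f'' V'') :=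
    isAffineOpen_cbox (fun j => (hX (U j) (hU j) (hUV j)).1) hV'' (fun j => inf_le_right)
  have hlocC'' := isLocalization_resAlg
    (cbox_le_base (f := f'') (κ := κ) (U := fun j => i ⁻¹ᵁ U j ⊓ f'' ⁻¹ᵁ V'') (V := V'')) hbox'' hD''V hD''le hD''C
  -- the invariant of the stabilizer on the box
  have hsfix : rW'' s ∈ fix τ'' := fun h => by
    change actAlg hD''V h.1 (hD''st h.1 h.2) _ = _
    simp only [rW'']
    rw [← resAlg_actAlg hW''V hD''V hD''W h.1 (hst'' h.1) (hD''st h.1 h.2)]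
    exact congrArg _ (hs ⟨h.1, trivial⟩)
  have hbfix'' : φC b ∈ fix σC'' := fun h => by
    change actAlg cbox_le_base h.1 (cbox_isStab h.1 h.2) (φC b) = φC b
    simp only [φC]
    rw [← appLE_actAlg hcπ hcb cbox_le_base cbox_le_base hcC h.1 (cbox_isStab h.1 h.2) (cbox_isStab h.1 h.2)]
    exact congrArg φC (hb h)
  obtain ⟨k, u, hu, hus⟩ := exists_fix_lift (σ := σC'') (τ := τ'') rC'' hresC'' hbfix'' hlocC'' hsfix
  let SpH : Submodule Γ(S'', V'') Γ(fibPow f'' d, W'') :=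
    Submodule.span Γ(S'', V'') (φW '' (fixed (actHom hWV hst) (stab κ) : Set _))
  have hmulmem : ∀ {x}, x ∈ SpH → ∀ v ∈ fixed (actHom hWV hst) (stab κ), x * φW v ∈ SpH := fun {x} hx v hv => by
    induction hx using Submodule.span_induction with
    | mem y hy =>
      obtain ⟨y, hy, rfl⟩ := hy
      exact Submodule.subset_span ⟨y * v, mul_mem hy hv, map_mul φW y v⟩
    | zero => simp
    | add y z _ _ hy hz => rw [add_mul]; exact Submodule.add_mem _ hy hz
    | smul r y _ hy => rw [smul_mul_assoc]; exact Submodule.smul_mem _ _ hy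
  have hQ : ∃ N, ∃ x ∈ SpH, rW'' x = rC'' u * rW'' (φW a) ^ N := by
    have := mem_span_box hcπ hU hV hUV hV'' (fun j => (hX (U j) (hU j) (hUV j)).1)
      (fun j => (hX (U j) (hU j) (hUV j)).2) hcC u hu
    clear hus hu
    induction this using Submodule.span_induction with
    | mem y hy =>
      obtain ⟨y, hy, rfl⟩ := hy
      obtain ⟨N, v, hv, hvy⟩ := exists_fix_lift (σ := σW) (τ := τ) rW hresW ha hlocW
        (map_mem_fix (σ := σC) rC hresC hy)
      refine ⟨N, φW v, Submodule.subset_span ⟨v, hv, rfl⟩, ?_⟩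
      rw [hnatW, hvy, map_mul, map_pow, ← hnatW, ← hnatC]
    | zero => exact ⟨0, 0, Submodule.zero_mem _, by simp⟩
    | add y z _ _ hy hz =>
      obtain ⟨N, p, hp, hpy⟩ := hy
      obtain ⟨M, q, hq, hqz⟩ := hz
      refine ⟨N + M, p * φW (a ^ M) + q * φW (a ^ N),
        Submodule.add_mem _ (hmulmem hp _ (pow_mem ha M)) (hmulmem hq _ (pow_mem ha N)), ?_⟩
      rw [map_add, map_mul, map_mul, map_add, map_pow φW, map_pow φW, map_pow rW'', map_pow rW'', hpy, hqz, pow_add]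
      ring
    | smul r y _ hy =>
      obtain ⟨N, p, hp, hpy⟩ := hy
      exact ⟨N, r • p, Submodule.smul_mem _ _ hp, by rw [map_smul, map_smul, hpy, smul_mul_assoc]⟩
  obtain ⟨N, x, hx, hxu⟩ := hQ
  -- the inverse of `b`
  have hbu : IsUnit (rC b) := by
    letI := rC.toRingHom.toAlgebra
    haveI := isLocalization_resAlg (cbox_le_base (f := f) (κ := κ) (U := U) (V := V))
      (isAffineOpen_cbox hU hV hUV) hDV hle (x := b) hDb.symm
    exact IsLocalization.Away.algebraMap_isUnit b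
  obtain ⟨bu, hbu⟩ := hbu
  have hbinv : ((bu⁻¹ : _ˣ) : Γ(fibPow f d, D)) ∈ fix τ := fun h => by
    have h1 : τ h (rC b) = rC b := map_mem_fix (σ := σC) rC hresC hb h
    have h2 : IsUnit (rC b) := ⟨bu, hbu⟩
    apply h2.mul_right_cancel
    conv_lhs => rw [← h1, ← map_mul]
    rw [← hbu, Units.inv_mul, map_one]
  obtain ⟨l, γ, hγ, hγb⟩ := exists_fix_lift (σ := σW) (τ := τ) rW hresW ha hlocW hbinv
  have hkey : rW'' (x * φW (γ ^ k)) = rW'' (φW a ^ (N + l * k) * s) := by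
    have h1 : φD (rC b) * φD ((bu⁻¹ : _ˣ) : Γ(fibPow f d, D)) = 1 := by
      rw [← map_mul, ← hbu, Units.mul_inv, map_one]
    have h2 : (φD (rC b)) ^ k * (φD ((bu⁻¹ : _ˣ) : Γ(fibPow f d, D))) ^ k = 1 := by rw [← mul_pow, h1, one_pow]
    simp only [map_mul, map_pow, hxu, hus]
    rw [hnatW γ, hγb, map_mul, map_pow, ← hnatW, hnatC, mul_pow, ← pow_mul, pow_add]
    calc rW'' s * φD (rC b) ^ k * rW'' (φW a) ^ N *
          (φD ((bu⁻¹ : _ˣ) : Γ(fibPow f d, D)) ^ k * rW'' (φW a) ^ (l * k))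
        = rW'' (φW a) ^ N * rW'' (φW a) ^ (l * k) * rW'' s *
          (φD (rC b) ^ k * φD ((bu⁻¹ : _ˣ) : Γ(fibPow f d, D)) ^ k) := by ring
      _ = _ := by rw [h2, mul_one]
  letI := rW''.toRingHom.toAlgebra
  haveI := hlocW''
  obtain ⟨⟨_, M, rfl⟩, hM⟩ := IsLocalization.exists_of_eq (M := Submonoid.powers (φW a))
    (S := Γ(fibPow f'' d, D'')) hkey
  change φW a ^ M * (x * φW (γ ^ k)) = φW a ^ M * (φW a ^ (N + l * k) * s) at hM
  let e := M + (N + l * k)
  have hsH : φW a ^ (e + 1) * s ∈ SpH := by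
    have : φW a ^ (e + 1) * s = x * φW (γ ^ k * a ^ (M + 1)) := by
      rw [map_mul, map_pow φW a (M + 1)]
      simp only [e, pow_add, pow_one, pow_zero, one_mul] at hM ⊢
      linear_combination (- φW a) * hM
    rw [this]
    exact hmulmem hx _ (mul_mem (pow_mem hγ k) (pow_mem ha (M + 1)))
  refine ⟨trace (actHom hWV hst) (stab κ) (a ^ (e + 1)), trace_mem _ _ (pow_mem ha _), ?_, ?_⟩
  · refine trace_notMem (actHom hWV hst) (stab κ) (P.comap (c.appLE W W'' hcW).hom) ha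
      (fun h => ((hmemP a).1 h) hza) (fun g hg => (hmemP _).2 (hnot g hg)) e
  · have htrnat : ∀ y, φW (trace (actHom hWV hst) (stab κ) y) = trace (actHom hW''V hst'') (stab κ) (φW y) := fun y => by
      simp only [trace, map_sum]
      exact Finset.sum_congr rfl fun q _ => appLE_actAlg hcπ hcb hWV hW''V hcW _ (hst _) (hst'' _) y
    change φW (trace (actHom hWV hst) (stab κ) (a ^ (e + 1))) * s ∈ _
    rw [htrnat, map_pow, mul_comm, ← trace_mul _ _ hs, mul_comm s]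
    generalize φW a ^ (e + 1) * s = y at hsH
    induction hsH using Submodule.span_induction with
    | mem y hy =>
      obtain ⟨v, hv, rfl⟩ := hy
      rw [← htrnat]
      exact Submodule.subset_span ⟨_, trace_mem _ _ hv, rfl⟩
    | zero => simp [trace]
    | add y z _ _ hy hz => rw [trace_add]; exact Submodule.add_mem _ hy hz
    | smul r y _ hy => rw [trace_smul]; exact Submodule.smul_mem _ _ hy

end Groth.Agent.SymProdLib
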