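import Mathlib.LinearAlgebra.PiTensorProduct.Basis
import Mathlib.LinearAlgebra.TensorProduct.Basis
import Mathlib.RingTheory.Flat.EquationalCriterion
import Mathlib.RingTheory.Flat.Basic
import Mathlib.Data.Fintype.Perm
import Mathlib.Algebra.BigOperators.Finsupp.Basic

/-!
# Symmetric tensors of a flat module commute with base change

For a flat `R`-module `M` and any `R`-module `P` the natural map from
`(M^{⊗n})^{S_n} ⊗ P` to `(M^{⊗n} ⊗ P)^{S_n}` is bijective; in particular the symmetric
tensors of a flat module form a flat module.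
-/

set_option autoImplicit false
set_option backward.isDefEq.respectTransparency false
set_option backward.isDefEq.respectTransparency.types false
set_option linter.unusedSectionVars false

universe u v

open scoped TensorProduct
open PiTensorProduct (tprod)

namespace Groth.Agent.SymProdLib

variable (R : Type u) [CommRing R] (n : ℕ) (M : Type u) [AddCommGroup M] [Module R M]

/-- The tensor power. -/
abbrev TP : Type u := ⨂[R] _ : Fin n, M

/-- The permutation of the factors. -/
noncomputable def perm (σ : Equiv.Perm (Fin n)) : TP R n M →ₗ[R] TP R n M :=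
  (PiTensorProduct.reindex R (fun _ : Fin n => M) σ).toLinearMap

/-- The symmetric tensors. -/
noncomputable def Inv : Submodule R (TP R n M) :=
  ⨅ σ : Equiv.Perm (Fin n), LinearMap.eqLocus (perm R n M σ) LinearMap.id

theorem perm_tprod (σ : Equiv.Perm (Fin n)) (v : Fin n → M) :
    perm R n M σ (tprod R v) = tprod R fun i => v (σ.symm i) :=
  PiTensorProduct.reindex_tprod σ v

theorem mem_Inv (x : TP R n M) : x ∈ Inv R n M ↔ ∀ σ, perm R n M σ x = x := by
  simp [Inv, Submodule.mem_iInf, LinearMap.mem_eqLocus]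

variable (P : Type u) [AddCommGroup P] [Module R P]

/-- Symmetric tensors with coefficients, mapped to tensors with coefficients. -/
noncomputable abbrev incl : Inv R n M ⊗[R] P →ₗ[R] TP R n M ⊗[R] P :=
  (Inv R n M).subtype.rTensor P

/-- Being invariant with coefficients. -/
def IsInv (z : TP R n M ⊗[R] P) : Prop := ∀ σ, (perm R n M σ).rTensor P z = z

theorem isInv_incl (u : Inv R n M ⊗[R] P) : IsInv R n M P (incl R n M P u) := fun σ => by
  rw [← LinearMap.comp_apply, ← LinearMap.rTensor_comp]
  congr 2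
  exact LinearMap.ext fun x => (mem_Inv R n M x.1).1 x.2 σ

section Free

variable {R n M} {ι : Type u} (b : Module.Basis ι R M)

/-- The orbit relation on multi-indices. -/
def orbitSetoid (ι : Type u) (n : ℕ) : Setoid (Fin n → ι) where
  r p q := ∃ σ : Equiv.Perm (Fin n), p ∘ σ = q
  iseqv := ⟨fun p => ⟨1, rfl⟩, fun {p q} ⟨σ, h⟩ => ⟨σ.symm, by subst h; funext i; simp⟩,
    fun {p q r} ⟨σ, h⟩ ⟨τ, h'⟩ => ⟨τ.trans σ, by subst h; subst h'; rfl⟩⟩

/-- A representative of the orbit. -/
noncomputable def rep (p : Fin n → ι) : Fin n → ι := (Quotient.mk (orbitSetoid ι n) p).out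

theorem rep_rel (p : Fin n → ι) : ∃ σ : Equiv.Perm (Fin n), rep p ∘ σ = p :=
  Quotient.exact (Quotient.out_eq (Quotient.mk (orbitSetoid ι n) p))

theorem rep_comp (p : Fin n → ι) (σ : Equiv.Perm (Fin n)) : rep (p ∘ σ) = rep p := by
  have h : Quotient.mk (orbitSetoid ι n) p = Quotient.mk (orbitSetoid ι n) (p ∘ σ) :=
    Quotient.sound ⟨σ, rfl⟩
  rw [rep, rep, h]

open Classical in
/-- The orbit as a finite set. -/
noncomputable def orb (p : Fin n → ι) : Finset (Fin n → ι) :=
  Finset.univ.image fun σ : Equiv.Perm (Fin n) => p ∘ σ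

theorem mem_orb (p q : Fin n → ι) : q ∈ orb p ↔ ∃ σ : Equiv.Perm (Fin n), p ∘ σ = q := by
  classical
  simp [orb]

/-- The basis of the tensor power. -/
noncomputable def Bn : Module.Basis (Fin n → ι) R (TP R n M) :=
  Basis.piTensorProduct fun _ : Fin n => b

theorem perm_Bn (σ : Equiv.Perm (Fin n)) (p : Fin n → ι) :
    perm R n M σ (Bn b p) = Bn b (p ∘ σ.symm) := by
  simp only [Bn, Basis.piTensorProduct_apply, perm_tprod, Function.comp_apply]

theorem orbitSum_mem (p : Fin n → ι) : (∑ q ∈ orb p, Bn b q) ∈ Inv R n M := by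
  classical
  refine (mem_Inv R n M _).2 fun σ => ?_
  rw [map_sum]
  refine Finset.sum_nbij' (fun q => q ∘ σ.symm) (fun q => q ∘ σ) (fun q hq => ?_) (fun q hq => ?_)
    (fun q _ => by funext i; simp) (fun q _ => by funext i; simp) (fun q _ => perm_Bn b σ q)
  · obtain ⟨τ, rfl⟩ := (mem_orb p q).1 hq
    exact (mem_orb p _).2 ⟨σ.symm.trans τ, rfl⟩
  · obtain ⟨τ, rfl⟩ := (mem_orb p q).1 hq
    exact (mem_orb p _).2 ⟨σ.trans τ, rfl⟩

open Classical in
/-- The retraction onto the symmetric tensors. -/
noncomputable def retr : TP R n M →ₗ[R] Inv R n M :=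
  (Bn b).constr R fun p => if rep p = p then ⟨_, orbitSum_mem b p⟩ else 0

open Classical in
/-- Coordinates with coefficients. -/
noncomputable abbrev coords : TP R n M ⊗[R] P ≃ₗ[R] ((Fin n → ι) →₀ P) :=
  TensorProduct.equivFinsuppOfBasisLeft (Bn b)

theorem coords_perm (σ : Equiv.Perm (Fin n)) (q : Fin n → ι) (z : TP R n M ⊗[R] P) :
    coords P b ((perm R n M σ).rTensor P z) q = coords P b z (q ∘ σ) := by
  classical
  suffices h : Finsupp.lapply q ∘ₗ (coords P b).toLinearMap ∘ₗ (perm R n M σ).rTensor P =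
      Finsupp.lapply (q ∘ σ) ∘ₗ (coords P b).toLinearMap from LinearMap.congr_fun h z
  refine TensorProduct.ext ((Bn b).ext fun p => LinearMap.ext fun a => ?_)
  have hiff : p ∘ ⇑σ.symm = q ↔ p = q ∘ ⇑σ :=
    ⟨fun h => by subst h; funext i; simp, fun h => by subst h; funext i; simp⟩
  by_cases h : p = q ∘ ⇑σ
  · subst h
    have e : (q ∘ ⇑σ) ∘ ⇑σ.symm = q := by funext i; simp
    simp [perm_Bn, e]
  · have h' : ¬ p ∘ ⇑σ.symm = q := fun e => h (hiff.1 e)
    simp [perm_Bn, h, h']

theorem coords_retr (q : Fin n → ι) (z : TP R n M ⊗[R] P) :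
    coords P b (incl R n M P ((retr b).rTensor P z)) q = coords P b z (rep q) := by
  classical
  suffices h : Finsupp.lapply q ∘ₗ (coords P b).toLinearMap ∘ₗ incl R n M P ∘ₗ (retr b).rTensor P =
      Finsupp.lapply (rep q) ∘ₗ (coords P b).toLinearMap from LinearMap.congr_fun h z
  refine TensorProduct.ext ((Bn b).ext fun p => LinearMap.ext fun a => ?_)
  have hiff : (rep p = p ∧ q ∈ orb p) ↔ p = rep q := by
    constructor
    · rintro ⟨h1, h2⟩
      obtain ⟨σ, rfl⟩ := (mem_orb p q).1 h2
      rw [rep_comp, h1]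
    · rintro rfl
      obtain ⟨σ, hσ⟩ := rep_rel q
      exact ⟨by conv_rhs => rw [← hσ, rep_comp], (mem_orb _ _).2 ⟨σ, hσ⟩⟩
  have hr : retr b (Bn b p) = if rep p = p then ⟨_, orbitSum_mem b p⟩ else 0 :=
    (Bn b).constr_basis R _ p
  by_cases h1 : rep p = p
  · by_cases h2 : q ∈ orb p
    · simp [hr, h1, h2, ← hiff.1 ⟨h1, h2⟩, TensorProduct.sum_tmul, Finsupp.single_apply]
    · have h3 : ¬ p = rep q := fun e => h2 (hiff.2 e).2
      simp [hr, h1, h2, h3, TensorProduct.sum_tmul, Finsupp.single_apply]
  · have h3 : ¬ p = rep q := fun e => h1 (hiff.2 e).1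
    simp [hr, h1, h3]

theorem incl_retr_of_isInv (z : TP R n M ⊗[R] P) (hz : IsInv R n M P z) :
    incl R n M P ((retr b).rTensor P z) = z := by
  refine (coords P b).injective (Finsupp.ext fun q => ?_)
  rw [coords_retr]
  obtain ⟨σ, hσ⟩ := rep_rel q
  conv_rhs => rw [← hσ, ← coords_perm, hz σ]

theorem retr_apply_of_mem (x : Inv R n M) : retr b x.1 = x := by
  refine Subtype.ext ?_
  have h := incl_retr_of_isInv R b (x.1 ⊗ₜ[R] (1 : R)) fun σ => by
    rw [LinearMap.rTensor_tmul, (mem_Inv R n M x.1).1 x.2 σ]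
  have h2 := congrArg (TensorProduct.rid R (TP R n M)) h
  simpa using h2

theorem incl_injective_free (b : Module.Basis ι R M) : Function.Injective (incl R n M P) := by
  refine Function.LeftInverse.injective (g := (retr b).rTensor P) fun u => ?_
  rw [← LinearMap.comp_apply, ← LinearMap.rTensor_comp]
  have h : retr b ∘ₗ (Inv R n M).subtype = LinearMap.id := LinearMap.ext (retr_apply_of_mem b)
  rw [h, LinearMap.rTensor_id, LinearMap.id_apply]

end Free

section Functorial

variable {R n M} {L : Type u} [AddCommGroup L] [Module R L]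

/-- The tensor power of a linear map. -/
noncomputable abbrev mapT (π : L →ₗ[R] M) : TP R n L →ₗ[R] TP R n M :=
  PiTensorProduct.map fun _ : Fin n => π

theorem perm_mapT (π : L →ₗ[R] M) (σ : Equiv.Perm (Fin n)) :
    perm R n M σ ∘ₗ mapT π = mapT π ∘ₗ perm R n L σ := by
  ext v
  simp [perm_tprod]

theorem mapT_mem (π : L →ₗ[R] M) {x : TP R n L} (hx : x ∈ Inv R n L) : mapT π x ∈ Inv R n M :=
  (mem_Inv R n M _).2 fun σ => by
    rw [← LinearMap.comp_apply, perm_mapT, LinearMap.comp_apply, (mem_Inv R n L x).1 hx σ]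

/-- The induced map on symmetric tensors. -/
noncomputable def mapI (π : L →ₗ[R] M) : Inv R n L →ₗ[R] Inv R n M :=
  (mapT π ∘ₗ (Inv R n L).subtype).codRestrict _ fun x => mapT_mem π x.2

theorem incl_mapI (π : L →ₗ[R] M) (u : Inv R n L ⊗[R] P) :
    incl R n M P ((mapI π).rTensor P u) = (mapT π).rTensor P (incl R n L P u) := by
  rw [← LinearMap.comp_apply, ← LinearMap.comp_apply, ← LinearMap.rTensor_comp, ← LinearMap.rTensor_comp]
  rfl

variable (π : L →ₗ[R] M)

/-- The span of the tensors having a factor in the kernel. -/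
def kerSpan : Submodule R (TP R n L ⊗[R] P) :=
  Submodule.span R {t | ∃ (v : Fin n → L) (p : P), (∃ i, π (v i) = 0) ∧ tprod R v ⊗ₜ[R] p = t}

theorem tprod_congr_mod (v w : Fin n → L) (h : ∀ i, π (v i) = π (w i)) (p : P) :
    (kerSpan P π).mkQ (tprod R v ⊗ₜ[R] p) = (kerSpan P π).mkQ (tprod R w ⊗ₜ[R] p) := by
  classical
  suffices hs : ∀ s : Finset (Fin n),
      (kerSpan P π).mkQ (tprod R (s.piecewise w v) ⊗ₜ[R] p) = (kerSpan P π).mkQ (tprod R v ⊗ₜ[R] p) by
    simpa using (hs Finset.univ).symm
  intro s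
  induction s using Finset.induction_on with
  | empty => simp
  | @insert j s hj ih =>
    rw [← ih, Finset.piecewise_insert]
    set c := s.piecewise w v with hc
    have hcj : c j = v j := by rw [hc, Finset.piecewise_eq_of_notMem _ _ _ hj]
    rw [← sub_eq_zero, ← map_sub, ← TensorProduct.sub_tmul, Submodule.mkQ_apply,
      Submodule.Quotient.mk_eq_zero]
    conv in tprod R c => rw [← Function.update_eq_self j c]
    rw [← MultilinearMap.map_update_sub, hcj]
    exact Submodule.subset_span ⟨_, p, ⟨j, by simp [h j]⟩, rfl⟩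

theorem exists_quot_inverse (hπ : Function.Surjective π) (z : TP R n L ⊗[R] P)
    (hz : (mapT π).rTensor P z = 0) : z ∈ kerSpan P π := by
  classical
  let s := Function.surjInv hπ
  have hs : ∀ m, π (s m) = m := Function.surjInv_eq hπ
  let g : MultilinearMap R (fun _ : Fin n => M) (P →ₗ[R] (TP R n L ⊗[R] P) ⧸ kerSpan P π) :=
    { toFun := fun m => (kerSpan P π).mkQ ∘ₗ TensorProduct.mk R (TP R n L) P (tprod R (s ∘ m))
      map_update_add' := by
        intro _ m i x y
        refine LinearMap.ext fun p => ?_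
        simp only [LinearMap.comp_apply, LinearMap.add_apply, TensorProduct.mk_apply, Function.comp_update]
        rw [tprod_congr_mod P π (Function.update (s ∘ m) i (s (x + y))) (Function.update (s ∘ m) i (s x + s y))
          (fun j => by by_cases hj : j = i <;> simp [hj, hs]) p, MultilinearMap.map_update_add,
          TensorProduct.add_tmul, map_add]
      map_update_smul' := by
        intro _ m i c x
        refine LinearMap.ext fun p => ?_
        simp only [LinearMap.comp_apply, LinearMap.smul_apply, TensorProduct.mk_apply, Function.comp_update]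
        rw [tprod_congr_mod P π (Function.update (s ∘ m) i (s (c • x))) (Function.update (s ∘ m) i (c • s x))
          (fun j => by by_cases hj : j = i <;> simp [hj, hs]) p, MultilinearMap.map_update_smul,
          ← TensorProduct.smul_tmul', map_smul] }
  have h : TensorProduct.lift (PiTensorProduct.lift g) ∘ₗ (mapT π).rTensor P = (kerSpan P π).mkQ := by
    refine TensorProduct.ext (PiTensorProduct.ext (MultilinearMap.ext fun v => LinearMap.ext fun p => ?_))
    simp only [LinearMap.compMultilinearMap_apply, TensorProduct.mk_apply, LinearMap.compr₂ₛₗ_apply,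
      LinearMap.comp_apply, LinearMap.rTensor_tmul, PiTensorProduct.map_tprod,
      TensorProduct.lift.tmul, PiTensorProduct.lift.tprod]
    exact tprod_congr_mod P π (s ∘ fun i => π (v i)) v (fun i => hs _) p
  have := LinearMap.congr_fun h z
  rw [LinearMap.comp_apply, hz, map_zero] at this
  exact (Submodule.Quotient.mk_eq_zero _).1 this.symm

theorem exists_finset_kills (z : TP R n L ⊗[R] P) (hz : z ∈ kerSpan P π) :
    ∃ K : Finset L, (∀ k ∈ K, π k = 0) ∧
      ∀ h : L →ₗ[R] L, (∀ k ∈ K, h k = 0) → (mapT h).rTensor P z = 0 := by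
  classical
  induction hz using Submodule.span_induction with
  | mem x hx =>
    obtain ⟨v, p, ⟨i, hi⟩, rfl⟩ := hx
    refine ⟨{v i}, by simpa using hi, fun h hh => ?_⟩
    have h0 : h (v i) = 0 := hh _ (Finset.mem_singleton_self _)
    rw [LinearMap.rTensor_tmul, PiTensorProduct.map_tprod, MultilinearMap.map_coord_zero _ i h0,
      TensorProduct.zero_tmul]
  | zero => exact ⟨∅, by simp, fun h _ => by simp⟩
  | add x y _ _ ihx ihy =>
    obtain ⟨K, hK, hx⟩ := ihx
    obtain ⟨K', hK', hy⟩ := ihy
    refine ⟨K ∪ K', fun k hk => (Finset.mem_union.1 hk).elim (hK k) (hK' k), fun h hh => ?_⟩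
    rw [map_add, hx h fun k hk => hh k (Finset.mem_union_left _ hk),
      hy h fun k hk => hh k (Finset.mem_union_right _ hk), add_zero]
  | smul a x _ ih =>
    obtain ⟨K, hK, hx⟩ := ih
    exact ⟨K, hK, fun h hh => by rw [map_smul, hx h hh, smul_zero]⟩

theorem exists_endo {ι : Type u} (b : Module.Basis ι R L) [Module.Flat R M] (hπ : Function.Surjective π)
    (K : Finset L) (hK : ∀ k ∈ K, π k = 0) :
    ∃ h : L →ₗ[R] L, π ∘ₗ h = π ∧ ∀ k ∈ K, h k = 0 := by
  classical
  let s : Finset ι := K.biUnion fun k => (b.repr k).support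
  let ιN : (s →₀ R) →ₗ[R] L := Finsupp.linearCombination R fun i : s => b i
  have hex : ∀ k : K, ∃ c : s →₀ R, ιN c = k.1 := fun k => by
    refine ⟨(b.repr k.1).subtypeDomain fun i => i ∈ s, ?_⟩
    conv_rhs => rw [← b.linearCombination_repr k.1]
    rw [Finsupp.linearCombination_apply, Finsupp.linearCombination_apply, Finsupp.sum_subtypeDomain_index
      (p := fun i => i ∈ s) (h := fun i r => r • b i) fun i hi => Finset.mem_biUnion.2 ⟨k.1, k.2, hi⟩]
  choose c hc using hex
  let f : (K →₀ R) →ₗ[R] (s →₀ R) := Finsupp.linearCombination R c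
  have hxf : (π ∘ₗ ιN) ∘ₗ f = 0 := by
    refine Finsupp.lhom_ext fun k r => ?_
    simp [f, hc, hK k.1 k.2]
  obtain ⟨m, a, y, hya, haf⟩ := Module.Flat.exists_factorization_of_comp_eq_zero_of_free hxf
  let y' : (Fin m →₀ R) →ₗ[R] L :=
    Finsupp.linearCombination R fun j => Function.surjInv hπ (y (Finsupp.single j 1))
  have hy' : π ∘ₗ y' = y := by
    refine Finsupp.lhom_ext fun j r => ?_
    simp [y', Function.surjInv_eq hπ, ← map_smul]
  let h : L →ₗ[R] L := b.constr R fun i => if hi : i ∈ s then y' (a (Finsupp.single ⟨i, hi⟩ 1)) else b i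
  have hhN : h ∘ₗ ιN = y' ∘ₗ a := by
    refine Finsupp.lhom_ext fun i r => ?_
    simp [h, ιN, i.2, ← map_smul]
  refine ⟨h, b.ext fun i => ?_, fun k hk => ?_⟩
  · by_cases hi : i ∈ s
    · have hx := LinearMap.congr_fun hya (Finsupp.single ⟨i, hi⟩ 1)
      rw [LinearMap.comp_apply, LinearMap.comp_apply, ← hy', LinearMap.comp_apply] at hx
      rw [LinearMap.comp_apply, show h (b i) = y' (a (Finsupp.single ⟨i, hi⟩ 1)) by simp [h, hi], ← hx]
      simp [ιN]
    · simp [h, hi]
  · refine ((congrArg h (hc ⟨k, hk⟩)).symm.trans ?_)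
    rw [← LinearMap.comp_apply, hhN, LinearMap.comp_apply]
    have := LinearMap.congr_fun haf (Finsupp.single ⟨k, hk⟩ 1)
    simp only [LinearMap.comp_apply, f, Finsupp.linearCombination_single, one_smul,
      LinearMap.zero_apply] at this
    rw [this, map_zero]

end Functorial

section Cover

variable {R n M} [Module.Flat R M] {L : Type u} [AddCommGroup L] [Module R L] {ι : Type u}
variable (b : Module.Basis ι R L) (π : L →ₗ[R] M) (hπ : Function.Surjective π)

include hπ in
theorem mapT_surjective : Function.Surjective (mapT (n := n) π) := by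
  rw [← LinearMap.range_eq_top, eq_top_iff, ← PiTensorProduct.span_tprod_eq_top, Submodule.span_le]
  rintro _ ⟨m, rfl⟩
  exact ⟨tprod R fun i => Function.surjInv hπ (m i), by simp [Function.surjInv_eq hπ]⟩

theorem mapT_comp {h : L →ₗ[R] L} (hh : π ∘ₗ h = π) : mapT (n := n) π ∘ₗ mapT h = mapT π := by
  rw [← PiTensorProduct.map_comp, hh]

theorem rTensor_mapT_comp {h : L →ₗ[R] L} (hh : π ∘ₗ h = π) (z : TP R n L ⊗[R] P) :
    (mapT (n := n) π).rTensor P ((mapT h).rTensor P z) = (mapT π).rTensor P z := by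
  rw [← LinearMap.comp_apply, ← LinearMap.rTensor_comp, mapT_comp π hh]

theorem rTensor_perm_mapT {L L' : Type u} [AddCommGroup L] [Module R L] [AddCommGroup L'] [Module R L']
    (π : L →ₗ[R] L') (σ : Equiv.Perm (Fin n)) (z : TP R n L ⊗[R] P) :
    (perm R n L' σ).rTensor P ((mapT π).rTensor P z) = (mapT π).rTensor P ((perm R n L σ).rTensor P z) := by
  rw [← LinearMap.comp_apply, ← LinearMap.comp_apply, ← LinearMap.rTensor_comp, ← LinearMap.rTensor_comp,
    perm_mapT]

include b hπ in
theorem exists_kill (z : TP R n L ⊗[R] P) (hz : (mapT π).rTensor P z = 0) :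
    ∃ h : L →ₗ[R] L, π ∘ₗ h = π ∧ (mapT h).rTensor P z = 0 := by
  obtain ⟨K, hK, hk⟩ := exists_finset_kills P π z (exists_quot_inverse P π hπ z hz)
  obtain ⟨h, hh, hhK⟩ := exists_endo π b hπ K hK
  exact ⟨h, hh, hk h hhK⟩

include b hπ in
theorem exists_invariant_lift (z : TP R n L ⊗[R] P) (hx : IsInv R n M P ((mapT π).rTensor P z)) :
    ∃ h : L →ₗ[R] L, π ∘ₗ h = π ∧ IsInv R n L P ((mapT h).rTensor P z) := by
  classical
  have hd : ∀ σ, (mapT π).rTensor P ((perm R n L σ).rTensor P z - z) = 0 := fun σ => by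
    rw [map_sub, ← rTensor_perm_mapT, hx σ, sub_self]
  choose K hK hkill using fun σ => exists_finset_kills P π _ (exists_quot_inverse P π hπ _ (hd σ))
  obtain ⟨h, hh, hhK⟩ := exists_endo π b hπ
    (Finset.univ.biUnion K) (fun k hk => by
      obtain ⟨σ, -, hσ⟩ := Finset.mem_biUnion.1 hk
      exact hK σ k hσ)
  refine ⟨h, hh, fun σ => ?_⟩
  have := hkill σ h fun k hk => hhK k (Finset.mem_biUnion.2 ⟨σ, Finset.mem_univ _, hk⟩)
  rwa [map_sub, ← rTensor_perm_mapT, sub_eq_zero] at this

include b hπ in
theorem mapI_surjective : Function.Surjective (mapI (n := n) π) := by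
  intro x
  obtain ⟨z, hz⟩ := mapT_surjective π hπ x.1
  obtain ⟨h, hh, hi⟩ := exists_invariant_lift R b π hπ (z ⊗ₜ[R] (1 : R)) fun σ => by
    simp only [LinearMap.rTensor_tmul, hz, (mem_Inv R n M x.1).1 x.2 σ]
  have hw : mapT h z ∈ Inv R n L := (mem_Inv _ _ _ _).2 fun σ => by
    have := congrArg (TensorProduct.rid R (TP R n L)) (hi σ)
    simpa using this
  refine ⟨⟨_, hw⟩, Subtype.ext ?_⟩
  change mapT π (mapT h z) = x.1
  rw [← LinearMap.comp_apply, mapT_comp π hh, hz]

include b hπ in
theorem exists_of_isInv_aux (x : TP R n M ⊗[R] P) (hx : IsInv R n M P x) :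
    ∃ u, incl R n M P u = x := by
  obtain ⟨z, rfl⟩ := LinearMap.rTensor_surjective P (mapT_surjective π hπ) x
  obtain ⟨h, hh, hi⟩ := exists_invariant_lift P b π hπ z hx
  refine ⟨(mapI π).rTensor P ((retr b).rTensor P ((mapT h).rTensor P z)), ?_⟩
  rw [incl_mapI, incl_retr_of_isInv P b _ hi, rTensor_mapT_comp P π hh]

include b hπ in
theorem incl_injective_aux : Function.Injective (incl R n M P) := by
  refine (injective_iff_map_eq_zero _).2 fun u hu => ?_
  obtain ⟨v, rfl⟩ := LinearMap.rTensor_surjective P (mapI_surjective (n := n) b π hπ) u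
  rw [incl_mapI] at hu
  obtain ⟨h, hh, hz⟩ := exists_kill P b π hπ _ hu
  rw [← incl_mapI] at hz
  have hv : (mapI h).rTensor P v = 0 := incl_injective_free P b (by rw [hz, map_zero])
  have hc : mapI (n := n) π ∘ₗ mapI h = mapI π := by
    refine LinearMap.ext fun x => Subtype.ext ?_
    change mapT π (mapT h x.1) = mapT π x.1
    rw [← LinearMap.comp_apply, mapT_comp π hh]
  rw [← hc, LinearMap.rTensor_comp, LinearMap.comp_apply, hv, map_zero]

include b hπ in
theorem flat_TP_aux : Module.Flat R (TP R n M) := by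
  haveI : Module.Free R (TP R n L) :=
    Module.Free.of_basis (Basis.piTensorProduct fun _ : Fin n => b)
  refine Module.Flat.iff_lTensor_preserves_injective_linearMap.2 fun P P' _ _ _ _ f hf => ?_
  refine (injective_iff_map_eq_zero _).2 fun x hx => ?_
  obtain ⟨z, rfl⟩ := LinearMap.rTensor_surjective P (mapT_surjective π hπ) x
  have e : ∀ {A B : Type u} [AddCommGroup A] [Module R A] [AddCommGroup B] [Module R B]
      (g : A →ₗ[R] B) (t : A ⊗[R] P),
      f.lTensor B (g.rTensor P t) = g.rTensor P' (f.lTensor A t) := fun g t => by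
    rw [← LinearMap.comp_apply, ← LinearMap.comp_apply, LinearMap.lTensor_comp_rTensor,
      LinearMap.rTensor_comp_lTensor]
  rw [e] at hx
  obtain ⟨h, hh, hz⟩ := exists_kill P' b π hπ _ hx
  rw [← e] at hz
  have h0 : (mapT h).rTensor P z = 0 :=
    Module.Flat.lTensor_preserves_injective_linearMap f hf (by rw [hz, map_zero])
  rw [← rTensor_mapT_comp P π hh, h0, map_zero]

end Cover

section Flat

variable {R n M} [Module.Flat R M]

/-- Every invariant tensor with coefficients comes from symmetric tensors. -/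
theorem exists_of_isInv (x : TP R n M ⊗[R] P) (hx : IsInv R n M P x) : ∃ u, incl R n M P u = x :=
  exists_of_isInv_aux P Finsupp.basisSingleOne (Finsupp.linearCombination R (id : M → M))
    (Finsupp.linearCombination_id_surjective R M) x hx

/-- Symmetric tensors with coefficients embed. -/
theorem incl_injective : Function.Injective (incl R n M P) :=
  incl_injective_aux P Finsupp.basisSingleOne (Finsupp.linearCombination R (id : M → M))
    (Finsupp.linearCombination_id_surjective R M)

/-- Tensor powers of flat modules are flat. -/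
theorem flat_TP : Module.Flat R (TP R n M) :=
  flat_TP_aux Finsupp.basisSingleOne (Finsupp.linearCombination R (id : M → M))
    (Finsupp.linearCombination_id_surjective R M)

/-- Symmetric tensors of flat modules are flat. -/
theorem flat_Inv : Module.Flat R (Inv R n M) := by
  haveI : Module.Flat R (TP R n M) := flat_TP
  refine Module.Flat.iff_lTensor_preserves_injective_linearMap.2 fun P P' _ _ _ _ f hf => ?_
  refine Function.Injective.of_comp (f := incl R n M P') ?_
  have e : ⇑(incl R n M P') ∘ ⇑(f.lTensor (Inv R n M)) = ⇑(f.lTensor (TP R n M)) ∘ ⇑(incl R n M P) := by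
    funext u
    simp only [Function.comp_apply]
    rw [← LinearMap.comp_apply, ← LinearMap.comp_apply, LinearMap.lTensor_comp_rTensor,
      LinearMap.rTensor_comp_lTensor]
  rw [e]
  exact (Module.Flat.lTensor_preserves_injective_linearMap f hf).comp (incl_injective P)

end Flat

end Groth.Agent.SymProdLib
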