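import Groth.Agent.SymProdLib.CBox
import Groth.Agent.SymProdLib.Main

/-!
# Invariants on stable affine opens of fibre powers, locally at a point

No (AF) hypothesis: near a point `z` of a stable affine open `W`, some element `a` fixed by the stabilizer
of the tuple of images of `z` cuts out a basic open of a coloured box and vanishes at the other translates of `z`.
-/

set_option autoImplicit false
set_option backward.isDefEq.respectTransparency false
set_option backward.isDefEq.respectTransparency.types false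
set_option linter.style.haveILetI false
set_option linter.unusedSectionVars false

universe u

open CategoryTheory CategoryTheory.Limits AlgebraicGeometry TopologicalSpace SymProd

namespace Groth.Agent.SymProdLib

variable {X S : Scheme.{u}} {f : X ⟶ S} {d : ℕ} {V : S.Opens}

theorem basicOpen_prod {Y : Scheme.{u}} {O : Y.Opens} {ι : Type*} (s : Finset ι) (x : ι → Γ(Y, O)) (y : Y) (hy : y ∈ O) :
    y ∈ Y.basicOpen (∏ i ∈ s, x i) ↔ ∀ i ∈ s, y ∈ Y.basicOpen (x i) := by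
  classical
  induction s using Finset.induction_on with
  | empty => simp [hy]
  | @insert i s hi ih =>
    rw [Finset.prod_insert hi, Scheme.basicOpen_mul, Finset.forall_mem_insert, ← ih]
    exact Iff.rfl

section Opens

variable {O O' : (fibPow f d).Opens} (hOV : O ≤ (WidePullback.base (fun _ : Fin d => f)) ⁻¹ᵁ V)

/-- Restriction as an algebra map. -/
noncomputable def resAlg (hO'V : O' ≤ (WidePullback.base (fun _ : Fin d => f)) ⁻¹ᵁ V) (h : O' ≤ O) :
    letI := bAlg hOV; letI := bAlg hO'V; Γ(fibPow f d, O) →ₐ[Γ(S, V)] Γ(fibPow f d, O') :=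
  letI := bAlg hOV; letI := bAlg hO'V
  { ((fibPow f d).presheaf.map (homOfLE h).op).hom with
    commutes' := fun r => by
      change ((fibPow f d).presheaf.map (homOfLE h).op).hom (((WidePullback.base (fun _ : Fin d => f)).appLE V O hOV).hom r) = _
      rw [← CommRingCat.comp_apply, Scheme.Hom.appLE_map]
      rfl }

theorem resAlg_actAlg (hO'V : O' ≤ (WidePullback.base (fun _ : Fin d => f)) ⁻¹ᵁ V) (h : O' ≤ O)
    (σ : Equiv.Perm (Fin d)) (e : O ≤ (permHom f d σ⁻¹) ⁻¹ᵁ O) (e' : O' ≤ (permHom f d σ⁻¹) ⁻¹ᵁ O')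
    (x : Γ(fibPow f d, O)) :
    letI := bAlg hOV; letI := bAlg hO'V
    resAlg hOV hO'V h (actAlg hOV σ e x) = actAlg hO'V σ e' (resAlg hOV hO'V h x) := by
  change ((fibPow f d).presheaf.map (homOfLE h).op).hom (((permHom f d σ⁻¹).appLE O O e).hom x) =
    ((permHom f d σ⁻¹).appLE O' O' e').hom (((fibPow f d).presheaf.map (homOfLE h).op).hom x)
  rw [← CommRingCat.comp_apply, ← CommRingCat.comp_apply, Scheme.Hom.map_appLE, Scheme.Hom.appLE_map]

theorem isLocalization_resAlg (hO : IsAffineOpen O) (hO'V : O' ≤ (WidePullback.base (fun _ : Fin d => f)) ⁻¹ᵁ V)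
    (h : O' ≤ O) {x : Γ(fibPow f d, O)} (hx : O' = (fibPow f d).basicOpen x) :
    letI := bAlg hOV; letI := bAlg hO'V
    letI := (resAlg hOV hO'V h).toRingHom.toAlgebra
    IsLocalization.Away x Γ(fibPow f d, O') :=
  hO.isLocalization_of_eq_basicOpen x (homOfLE h) hx

theorem basicOpen_resAlg (hO'V : O' ≤ (WidePullback.base (fun _ : Fin d => f)) ⁻¹ᵁ V) (h : O' ≤ O)
    (x : Γ(fibPow f d, O)) :
    letI := bAlg hOV; letI := bAlg hO'V
    (fibPow f d).basicOpen (resAlg hOV hO'V h x) = O' ⊓ (fibPow f d).basicOpen x :=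
  Scheme.basicOpen_res _ x (homOfLE h).op

theorem mem_basicOpen_actAlg (σ : Equiv.Perm (Fin d)) (e : O ≤ (permHom f d σ⁻¹) ⁻¹ᵁ O)
    (x : Γ(fibPow f d, O)) (y : fibPow f d) :
    letI := bAlg hOV
    y ∈ (fibPow f d).basicOpen (actAlg hOV σ e x) ↔
      y ∈ O ∧ (permHom f d σ⁻¹).base y ∈ (fibPow f d).basicOpen x := by
  change y ∈ (fibPow f d).basicOpen (((permHom f d σ⁻¹).appLE O O e).hom x) ↔ _
  rw [Scheme.basicOpen_appLE]
  exact Iff.rfl

end Opens

/-- Local data at a point of a stable affine open. -/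
theorem exists_local {W : (fibPow f d).Opens} (hV : IsAffineOpen V) (hW : IsAffineOpen W)
    (hWV : W ≤ (WidePullback.base (fun _ : Fin d => f)) ⁻¹ᵁ V)
    (hst : ∀ σ : Equiv.Perm (Fin d), W ≤ (permHom f d σ⁻¹) ⁻¹ᵁ W) (z : fibPow f d) (hz : z ∈ W) :
    letI := bAlg hWV
    letI := bAlg (cbox_le_base (f := f) (d := d) (V := V))
    ∃ (J : Type u) (_ : Fintype J) (κ : Fin d → J) (U : J → X.Opens), (∀ j, IsAffineOpen (U j)) ∧
      (∀ j, U j ≤ f ⁻¹ᵁ V) ∧ ∃ a ∈ fixed (actHom hWV hst) (stab κ),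
        z ∈ (fibPow f d).basicOpen a ∧
        (∀ σ ∉ stab κ, (permHom f d σ⁻¹).base z ∉ (fibPow f d).basicOpen a) ∧
        (fibPow f d).basicOpen a ≤ cbox κ U f V ∧
        (∀ σ ∈ stab κ, (fibPow f d).basicOpen a ≤ (permHom f d σ⁻¹) ⁻¹ᵁ (fibPow f d).basicOpen a) ∧
        ∃ b : Γ(fibPow f d, cbox κ U f V),
          (letI := bAlg (cbox_le_base (f := f) (κ := κ) (U := U) (V := V))
            ∀ σ : stab κ, actAlg cbox_le_base σ.1 (cbox_isStab σ.1 σ.2) b = b) ∧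
          (fibPow f d).basicOpen b = (fibPow f d).basicOpen a := by
  classical
  letI := bAlg hWV
  let P := fibPow f d
  let x : Fin d → X := fun i => (WidePullback.π (fun _ : Fin d => f) i).base z
  let s := (WidePullback.base (fun _ : Fin d => f)).base z
  have hsV : s ∈ V := hWV hz
  have hfx : ∀ i, f.base (x i) = s := fun i => by
    rw [← Scheme.Hom.comp_apply, WidePullback.π_arrow]
  let J := {p : X // p ∈ Finset.univ.image x}
  let κ : Fin d → J := fun i => ⟨x i, Finset.mem_image.2 ⟨i, Finset.mem_univ _, rfl⟩⟩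
  have hκ : ∀ σ : Equiv.Perm (Fin d), σ ∈ stab κ ↔ ∀ i, x (σ i) = x i := fun σ =>
    forall_congr' fun i => Subtype.ext_iff
  have hUe : ∀ j : J, ∃ U : X.Opens, IsAffineOpen U ∧ j.1 ∈ U ∧ U ≤ f ⁻¹ᵁ V := fun j => by
    obtain ⟨i, -, hi⟩ := Finset.mem_image.1 j.2
    obtain ⟨U, hU, hjU, hUV⟩ := exists_isAffineOpen_mem_and_subset (X := X) (x := j.1) (U := f ⁻¹ᵁ V)
      (by show f.base j.1 ∈ V; rw [← hi, hfx i]; exact hsV)
    exact ⟨U, hU, hjU, hUV⟩
  choose U hU hxU hUV using hUe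
  letI := bAlg (cbox_le_base (f := f) (κ := κ) (U := U) (V := V))
  have hC := isAffineOpen_cbox (κ := κ) (U := U) hU hV hUV
  -- translates
  have hxσ : ∀ (σ : Equiv.Perm (Fin d)) i,
      (WidePullback.π (fun _ : Fin d => f) i).base ((permHom f d σ⁻¹).base z) = x (σ i) := fun σ i => by
    rw [← Scheme.Hom.comp_apply, permHom_π]
    rfl
  let T : Finset P := (Finset.univ.filter (· ∈ stab κ)).image fun σ => (permHom f d σ⁻¹).base z
  let Bad : Finset P := (Finset.univ.filter (· ∉ stab κ)).image fun σ => (permHom f d σ⁻¹).base z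
  have hTW : ∀ t ∈ T, t ∈ W := fun t ht => by
    obtain ⟨σ, -, rfl⟩ := Finset.mem_image.1 ht
    exact hst σ hz
  have hTC : ∀ t ∈ T, t ∈ cbox κ U f V := fun t ht => by
    obtain ⟨σ, hσ, rfl⟩ := Finset.mem_image.1 ht
    refine cbox_isStab σ (Finset.mem_filter.1 hσ).2 ?_
    exact (mem_cbox z).2 ⟨hsV, fun i => hxU (κ i)⟩
  have hclosed : IsClosed (⋃ y ∈ (Bad : Set P), closure ({y} : Set P)) :=
    Bad.finite_toSet.isClosed_biUnion fun _ _ => isClosed_closure
  let V₀ : P.Opens := cbox κ U f V ⊓ ⟨(⋃ y ∈ (Bad : Set P), closure ({y} : Set P))ᶜ, hclosed.isOpen_compl⟩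
  have hTV : ∀ t ∈ T, t ∈ V₀ := fun t ht => by
    refine ⟨hTC t ht, ?_⟩
    show t ∈ (⋃ y ∈ (Bad : Set P), closure ({y} : Set P))ᶜ
    intro hu
    obtain ⟨y, hy, hyt⟩ := Set.mem_iUnion₂.1 hu
    obtain ⟨σ, hσ, rfl⟩ := Finset.mem_image.1 hy
    obtain ⟨τ, hτ, rfl⟩ := Finset.mem_image.1 ht
    have hsp : (permHom f d σ⁻¹).base z ⤳ (permHom f d τ⁻¹).base z := specializes_iff_mem_closure.2 hyt
    -- same image in the invariants, hence equal
    have hWσ := hst σ hz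
    have hWτ := hst τ hz
    let p : Ideal Γ(P, W) := (hW.primeIdealOf ⟨_, hWσ⟩).asIdeal
    let q : Ideal Γ(P, W) := (hW.primeIdealOf ⟨_, hWτ⟩).asIdeal
    have hmem : ∀ (y : P) (hy : y ∈ W) (g : Γ(P, W)),
        g ∈ (hW.primeIdealOf ⟨y, hy⟩).asIdeal ↔ y ∉ P.basicOpen g := fun y hy g =>
      Groth.Agent.QuotScheme.mem_primeIdealOf_iff hW ⟨y, hy⟩ g
    have hle : p ≤ q := fun g hg => (hmem _ hWτ g).2 fun hgt => (hmem _ hWσ g).1 hg
      (hsp.mem_open (P.basicOpen g).isOpen hgt)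
    haveI := isIntegral_fixed_top (actHom hWV hst)
    let R0 : Subalgebra Γ(S, V) Γ(P, W) := fixed (actHom hWV hst) (⊤ : Subgroup (Equiv.Perm (Fin d)))
    have hcomap : p.comap (algebraMap R0 Γ(P, W)) = q.comap (algebraMap R0 Γ(P, W)) := by
      ext g
      change g.1 ∈ p ↔ g.1 ∈ q
      have key : ∀ ρ : Equiv.Perm (Fin d), ((permHom f d ρ⁻¹).base z ∈ P.basicOpen g.1) ↔ z ∈ P.basicOpen g.1 := fun ρ => by
        conv_rhs => rw [← g.2 ⟨ρ, trivial⟩]
        exact ((mem_basicOpen_actAlg hWV ρ (hst ρ) g.1 z).trans ⟨fun h => h.2, fun h => ⟨hz, h⟩⟩).symm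
      rw [hmem _ hWσ, hmem _ hWτ, key, key]
    have heq : p = q := by
      by_contra hne
      exact (Ideal.IsIntegral.comap_lt_comap (R := R0) (lt_of_le_of_ne hle hne)).ne hcomap
    have hpt : (⟨_, hWσ⟩ : W) = ⟨_, hWτ⟩ :=
      Groth.Agent.QuotScheme.primeIdealOf_injective hW (PrimeSpectrum.ext heq)
    have hpt' : (permHom f d σ⁻¹).base z = (permHom f d τ⁻¹).base z := congrArg Subtype.val hpt
    refine (Finset.mem_filter.1 hσ).2 ((hκ σ).2 fun i => ?_)
    rw [← hxσ, hpt', hxσ]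
    exact (hκ τ).1 (Finset.mem_filter.1 hτ).2 i
  obtain ⟨a₀, ha₀V, ha₀T⟩ := Groth.Agent.SymAF.exists_basicOpen_finset hW T hTW V₀ hTV
  let H : Finset (stab κ) := Finset.univ
  let a₁ : Γ(P, W) := ∏ h ∈ H, actHom hWV hst h.1 a₀
  have ha₁fix : a₁ ∈ fixed (actHom hWV hst) (stab κ) := fun g => by
    simp only [a₁]
    rw [map_prod]
    refine Fintype.prod_equiv (Equiv.mulLeft g) _ _ fun h => ?_
    rw [Equiv.coe_mulLeft, Subgroup.coe_mul, act_mul_apply]
  have ha₁ : ∀ y, y ∈ P.basicOpen a₁ ↔ y ∈ W ∧ ∀ h : stab κ, (permHom f d h.1⁻¹).base y ∈ P.basicOpen a₀ := fun y => by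
    refine ⟨fun hy => ?_, fun hy => (basicOpen_prod H _ y hy.1).2 fun h _ =>
      (mem_basicOpen_actAlg hWV h.1 (hst h.1) a₀ y).2 ⟨hy.1, hy.2 h⟩⟩
    have hyW := P.basicOpen_le a₁ hy
    exact ⟨hyW, fun h => ((mem_basicOpen_actAlg hWV h.1 (hst h.1) a₀ y).1
      ((basicOpen_prod H _ y hyW).1 hy h (Finset.mem_univ h))).2⟩
  have ha₁le : P.basicOpen a₁ ≤ V₀ := fun y hy => by
    have := ((ha₁ y).1 hy).2 1
    simp only [Subgroup.coe_one, inv_one, permHom_one] at this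
    exact ha₀V this
  have hTa₁ : ∀ t ∈ T, t ∈ P.basicOpen a₁ := fun t ht => (ha₁ t).2 ⟨hTW t ht, fun h => by
    obtain ⟨σ, hσ, rfl⟩ := Finset.mem_image.1 ht
    rw [← Scheme.Hom.comp_apply, ← permHom_mul]
    refine ha₀T _ (Finset.mem_image.2 ⟨σ * h.1, Finset.mem_filter.2
      ⟨Finset.mem_univ _, (stab κ).mul_mem (Finset.mem_filter.1 hσ).2 h.2⟩, ?_⟩)
    rw [mul_inv_rev]⟩
  have hD₁V : P.basicOpen a₁ ≤ (WidePullback.base (fun _ : Fin d => f)) ⁻¹ᵁ V := (P.basicOpen_le a₁).trans hWV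
  letI := bAlg hD₁V
  have hD₁st : IsStab (stab κ) (P.basicOpen a₁) := fun σ hσ y hy => by
    have : actAlg hWV σ (hst σ) a₁ = a₁ := ha₁fix ⟨σ, hσ⟩
    rw [← this] at hy
    exact ((mem_basicOpen_actAlg hWV σ (hst σ) a₁ y).1 hy).2
  -- the element of the box
  obtain ⟨b₀, hb₀V, hb₀T⟩ := Groth.Agent.SymAF.exists_basicOpen_finset hC T hTC (P.basicOpen a₁) hTa₁
  let actC : stab κ → Γ(P, cbox κ U f V) →ₐ[Γ(S, V)] Γ(P, cbox κ U f V) := fun h =>
    actAlg cbox_le_base h.1 (cbox_isStab h.1 h.2)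
  let b : Γ(P, cbox κ U f V) := ∏ h ∈ H, actC h b₀
  have hbmul : ∀ g h : stab κ, actC (g * h) b₀ = actC g (actC h b₀) := fun g h => by
    change ((permHom f d (g.1 * h.1)⁻¹).appLE _ _ _).hom b₀ =
      ((permHom f d g.1⁻¹).appLE _ _ _).hom (((permHom f d h.1⁻¹).appLE _ _ _).hom b₀)
    rw [← CommRingCat.comp_apply, Scheme.Hom.appLE_comp_appLE, Groth.Agent.QuotScheme.appLE_congr_hom
      (show permHom f d (g.1 * h.1)⁻¹ = permHom f d g.1⁻¹ ≫ permHom f d h.1⁻¹ by rw [mul_inv_rev, permHom_mul])]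
  have hbfix : ∀ g, actC g b = b := fun g => by
    simp only [b]
    rw [map_prod]
    exact Fintype.prod_equiv (Equiv.mulLeft g) _ _ fun h => (hbmul g h).symm
  have hb : ∀ y, y ∈ P.basicOpen b ↔ y ∈ cbox κ U f V ∧ ∀ h : stab κ, (permHom f d h.1⁻¹).base y ∈ P.basicOpen b₀ := fun y => by
    refine ⟨fun hy => ?_, fun hy => (basicOpen_prod H _ y hy.1).2 fun h _ =>
      (mem_basicOpen_actAlg cbox_le_base h.1 (cbox_isStab h.1 h.2) b₀ y).2 ⟨hy.1, hy.2 h⟩⟩
    have hyC := P.basicOpen_le b hy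
    exact ⟨hyC, fun h => ((mem_basicOpen_actAlg cbox_le_base h.1 (cbox_isStab h.1 h.2) b₀ y).1
      ((basicOpen_prod H _ y hyC).1 hy h (Finset.mem_univ h))).2⟩
  have hbD : P.basicOpen b ≤ P.basicOpen a₁ := fun y hy => by
    have := ((hb y).1 hy).2 1
    simp only [Subgroup.coe_one, inv_one, permHom_one] at this
    exact hb₀V this
  have hzT : z ∈ T := Finset.mem_image.2 ⟨1, Finset.mem_filter.2 ⟨Finset.mem_univ _, (stab κ).one_mem⟩, by
    rw [inv_one, permHom_one]; rfl⟩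
  have hzb : z ∈ P.basicOpen b := (hb z).2 ⟨hTC z hzT, fun h => hb₀T _ (Finset.mem_image.2
    ⟨h.1, Finset.mem_filter.2 ⟨Finset.mem_univ _, h.2⟩, rfl⟩)⟩
  have hD₁C : P.basicOpen a₁ ≤ cbox κ U f V := ha₁le.trans inf_le_left
  let bD : Γ(P, P.basicOpen a₁) := resAlg cbox_le_base hD₁V hD₁C b
  let σW : stab κ → Γ(P, W) →ₐ[Γ(S, V)] Γ(P, W) := fun h => actHom hWV hst h.1
  let τD : stab κ → Γ(P, P.basicOpen a₁) →ₐ[Γ(S, V)] Γ(P, P.basicOpen a₁) := fun h =>
    actAlg hD₁V h.1 (hD₁st h.1 h.2)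
  have hbDfix : bD ∈ fix τD := fun h => by
    change actAlg hD₁V h.1 (hD₁st h.1 h.2) bD = bD
    simp only [bD]
    rw [← resAlg_actAlg cbox_le_base hD₁V hD₁C h.1 (cbox_isStab h.1 h.2) (hD₁st h.1 h.2)]
    exact congrArg _ (hbfix h)
  obtain ⟨N, β, hβ, hβb⟩ := exists_fix_lift (σ := σW) (τ := τD) (resAlg hWV hD₁V (P.basicOpen_le a₁))
    (fun h y => resAlg_actAlg hWV hD₁V (P.basicOpen_le a₁) h.1 (hst h.1) (hD₁st h.1 h.2) y)
    (a := a₁) ha₁fix (isLocalization_resAlg hWV hW hD₁V (P.basicOpen_le a₁) rfl) hbDfix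
  have hopen : P.basicOpen (a₁ * β) = P.basicOpen b := by
    have h1 := congrArg (fun t => P.basicOpen t) hβb
    simp only [Scheme.basicOpen_mul] at h1
    have h2 : P.basicOpen (resAlg hWV hD₁V (P.basicOpen_le a₁) a₁ ^ N) = P.basicOpen a₁ := by
      apply Scheme.basicOpen_of_isUnit
      letI := (resAlg hWV hD₁V (P.basicOpen_le a₁)).toRingHom.toAlgebra
      haveI := isLocalization_resAlg hWV hW hD₁V (P.basicOpen_le a₁) (x := a₁) rfl
      exact (IsLocalization.Away.algebraMap_isUnit (S := Γ(P, P.basicOpen a₁)) a₁).pow N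
    rw [h2] at h1
    rw [Scheme.basicOpen_mul]
    have e1 : P.basicOpen (resAlg hWV hD₁V (P.basicOpen_le a₁) β) = P.basicOpen a₁ ⊓ P.basicOpen β :=
      basicOpen_resAlg hWV hD₁V (P.basicOpen_le a₁) β
    have e2 : P.basicOpen bD = P.basicOpen a₁ ⊓ P.basicOpen b :=
      basicOpen_resAlg cbox_le_base hD₁V hD₁C b
    have h3 := e1.symm.trans (h1.trans (congrArg (· ⊓ P.basicOpen a₁) e2))
    rw [h3, inf_eq_right.2 hbD, inf_eq_left.2 hbD]
  refine ⟨J, FinsetCoe.fintype _, κ, U, hU, hUV, a₁ * β, mul_mem ha₁fix hβ, hopen ▸ hzb, fun σ hσ hmem => ?_,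
    hopen.le.trans (P.basicOpen_le b), fun σ hσ y hy => ?_, b, hbfix, hopen.symm⟩
  · rw [Scheme.basicOpen_mul] at hmem
    exact (ha₁le hmem.1).2 (Set.mem_biUnion (Finset.mem_coe.2 (Finset.mem_image.2
      ⟨σ, Finset.mem_filter.2 ⟨Finset.mem_univ _, hσ⟩, rfl⟩)) (subset_closure rfl))
  · have hfix := (mul_mem ha₁fix hβ : a₁ * β ∈ fixed (actHom hWV hst) (stab κ)) ⟨σ, hσ⟩
    have hy' : y ∈ P.basicOpen (actAlg hWV σ (hst σ) (a₁ * β)) := by
      change actAlg hWV σ (hst σ) (a₁ * β) = a₁ * β at hfix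
      rw [hfix]; exact hy
    exact ((mem_basicOpen_actAlg hWV σ (hst σ) (a₁ * β) y).1 hy').2

/-- Symmetric invariants on stable affine opens of fibre powers of flat morphisms are flat. -/
theorem flat_fixed_affine [Flat f] {W : (fibPow f d).Opens} (hV : IsAffineOpen V) (hW : IsAffineOpen W)
    (hWV : W ≤ (WidePullback.base (fun _ : Fin d => f)) ⁻¹ᵁ V)
    (hst : ∀ σ : Equiv.Perm (Fin d), W ≤ (permHom f d σ⁻¹) ⁻¹ᵁ W) :
    letI := bAlg hWV
    Module.Flat Γ(S, V) (fixed (actHom hWV hst) (⊤ : Subgroup (Equiv.Perm (Fin d)))) := by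
  classical
  letI := bAlg hWV
  refine flat_fixed_top (actHom hWV hst) fun p hp => ?_
  let pt : W := ⟨hW.fromSpec.base ⟨p, hp⟩, hW.range_fromSpec.le ⟨_, rfl⟩⟩
  have hpt : (hW.primeIdealOf pt).asIdeal = p := by
    rw [show hW.primeIdealOf pt = ⟨p, hp⟩ from hW.fromSpec.isOpenEmbedding.injective (hW.fromSpec_primeIdealOf pt)]
  have hmem : ∀ g : Γ(fibPow f d, W), g ∈ p ↔ pt.1 ∉ (fibPow f d).basicOpen g := fun g => by
    conv_lhs => rw [← hpt]
    exact Groth.Agent.QuotScheme.mem_primeIdealOf_iff hW pt g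
  obtain ⟨J, _, κ, U, hU, hUV, a, ha, hza, hbad, hle, hDst, b, hb, hDb⟩ := exists_local hV hW hWV hst pt.1 pt.2
  refine ⟨stab κ, ⟨a, ha⟩, fun h => (hmem a).1 h hza, fun g hg => (hmem _).2 fun h => hbad g hg
    ((mem_basicOpen_actAlg hWV g (hst g) a _).1 h).2, ?_⟩
  letI := bAlg (cbox_le_base (f := f) (κ := κ) (U := U) (V := V))
  have hDV : (fibPow f d).basicOpen a ≤ (WidePullback.base (fun _ : Fin d => f)) ⁻¹ᵁ V :=
    ((fibPow f d).basicOpen_le a).trans hWV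
  letI := bAlg hDV
  letI : ∀ j, Algebra Γ(S, V) Γ(X, U j) := fun j => (f.appLE V (U j) (hUV j)).hom.toAlgebra
  haveI : ∀ j, Module.Flat Γ(S, V) Γ(X, U j) := fun j =>
    RingHom.flat_algebraMap_iff.1 (HasRingHomProperty.appLE @Flat f inferInstance ⟨V, hV⟩ ⟨U j, hU j⟩ (hUV j))
  haveI : Module.Flat Γ(S, V) (∀ j, Γ(X, U j)) :=
    Module.Flat.of_linearEquiv (DirectSum.linearEquivFunOnFintype Γ(S, V) J fun j => (Γ(X, U j) : Type u)).symm
  obtain ⟨ψ, -, hsurj, hE, hker, hact⟩ := exists_block (κ := κ) (U := U) hU hV hUV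
  let actC : stab κ → Γ(fibPow f d, cbox κ U f V) →ₐ[Γ(S, V)] Γ(fibPow f d, cbox κ U f V) := fun h =>
    actAlg cbox_le_base h.1 (cbox_isStab h.1 h.2)
  haveI hCflat : Module.Flat Γ(S, V) (fix actC) :=
    flat_fix_stab κ (fun j => (Pi.single j 1 : ∀ j, Γ(X, U j))) ψ actC
      (fun i j hij => by
        funext k
        by_cases hk : k = i
        · subst hk; simp [hij]
        · simp [hk])
      hE hker hsurj hact
  let τ : stab κ → Γ(fibPow f d, (fibPow f d).basicOpen a) →ₐ[Γ(S, V)] Γ(fibPow f d, (fibPow f d).basicOpen a) :=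
    fun h => actAlg hDV h.1 (hDst h.1 h.2)
  let resW := resAlg hWV hDV ((fibPow f d).basicOpen_le a)
  let resC := resAlg (cbox_le_base (f := f) (κ := κ) (U := U) (V := V)) hDV hle
  let mapW := fixMap (σ := fun h : stab κ => actHom hWV hst h.1) (τ := τ) resW
    (fun h y => resAlg_actAlg hWV hDV _ h.1 (hst h.1) (hDst h.1 h.2) y)
  let mapC := fixMap (σ := actC) (τ := τ) resC
    (fun h y => resAlg_actAlg cbox_le_base hDV hle h.1 (cbox_isStab h.1 h.2) (hDst h.1 h.2) y)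
  letI algW : Algebra (fixed (actHom hWV hst) (stab κ)) (fix τ) := mapW.toRingHom.toAlgebra
  refine ⟨fix τ, inferInstance, inferInstance, algW, IsScalarTower.of_algebraMap_eq fun r => (mapW.commutes r).symm,
    isLocalization_fix resW _ ha (isLocalization_resAlg hWV hW hDV _ rfl), ?_⟩
  letI algC : Algebra (fix actC) (fix τ) := mapC.toRingHom.toAlgebra
  haveI : IsScalarTower Γ(S, V) (fix actC) (fix τ) := IsScalarTower.of_algebraMap_eq fun r => (mapC.commutes r).symm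
  haveI : IsLocalization.Away (⟨b, hb⟩ : fix actC) (fix τ) :=
    isLocalization_fix resC _ hb (isLocalization_resAlg _ (isAffineOpen_cbox hU hV hUV) hDV hle hDb.symm)
  haveI : Module.Flat (fix actC) (fix τ) := IsLocalization.flat _ (Submonoid.powers (⟨b, hb⟩ : fix actC))
  exact Module.Flat.trans Γ(S, V) (fix actC) (fix τ)

end Groth.Agent.SymProdLib
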